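import Cfsg.Agent.KFacts.FiTF.OrbSys
import Cfsg.Agent.KFacts.SheetOf
import Cfsg.Agent.KFacts.FiTF.RQ
import Cfsg.Agent.KFacts.FiTF.FixZ
import Cfsg.Agent.KFacts.FiTF.QuasiA
import Cfsg.Agent.R08.TetBigInst
import Cfsg.Agent.R08.TetFi24B
import Cfsg.Agent.KFacts.FiTF.FixMask
import Cfsg.Agent.R08.TetFi24A

-- merged: Cfsg.Agent.KFacts.FiTF.Abs
section

/-!
# `Frame → SheetE` (helper528)

`key`: every automorphism of `P` (the last term of the derived series of `C_K(z)`) fixing `z` is the conjugation by an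
element of `C_F(z)`; `aut`: the same for automorphisms of `K`. `Frame.sheetE`.
-/

set_option autoImplicit false

namespace Cfsg.Agent.KFacts.FiTF

open Subgroup Cfsg.Agent.Co2Type.Quad Cfsg.Agent.KFacts.LargeO2 Cfsg.Agent.OddHalf
open scoped commutatorElement

variable {F : Type*} [Group F] {K : Subgroup F} {z : F} {R E : Subgroup F} {Om : Set F}

namespace Abs

theorem large (h : Frame K z R E Om) : Large R z where
  z_mem := h.zR
  z_ne := h.z1
  z_sq := h.zz
  comm_z x hx := h.Ez x (h.RE hx)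
  conj_mem := h.norm
  sq := h.sq
  comm x hx y hy := by
    rcases h.com x hx y hy with h1 | h1
    · exact Or.inl h1
    · right; rw [h1, h.Ez _ (mul_mem (h.RE hy) (h.RE hx))]
  cent x hx hc := h.ctr x hx fun s hs => (hc s hs).symm
  self g hg hc := by
    rcases h.cent g hc with rfl | rfl
    · exact R.one_mem
    · exact h.zR

theorem exists_nontriv (h : Frame K z R E Om) : ∃ x ∈ R, x ≠ 1 ∧ x ≠ z := by
  by_contra hcon
  push Not at hcon
  have h1 : (R : Set F) ⊆ {1, z} := by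
    intro x hx
    by_cases h2 : x = 1
    · exact Or.inl h2
    · exact Or.inr (hcon x hx h2)
  have h2 := Set.ncard_le_ncard h1 (Set.toFinite _)
  have h3 : (R : Set F).ncard = 8192 := h.cardR
  have h4 : ({1, z} : Set F).ncard ≤ 2 := Set.ncard_insert_le 1 {z} |>.trans (by rw [Set.ncard_singleton])
  omega

/-- a 2-group acting on `R/⟨z⟩` has nontrivial fixed points -/
theorem exists_fix [Finite F] {Q : Subgroup F} (h : Large Q z) (hQ : ∃ x ∈ Q, x ≠ 1 ∧ x ≠ z)
    {W : Subgroup F} (hW : IsPGroup 2 W) (hWz : ∀ w ∈ W, w * z = z * w) :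
    ∃ x ∈ Q, x ≠ 1 ∧ x ≠ z ∧ ∀ w ∈ W, w * x * w⁻¹ = x ∨ w * x * w⁻¹ = x * z := by
  let _ : MulAction W h.V :=
    { smul := fun w v => h.act ⟨w, Subgroup.mem_centralizer_singleton_iff.2 (hWz w w.2)⟩ v
      one_smul := fun v => by
        show h.act ⟨((1 : W) : F), _⟩ v = v
        have : (⟨((1 : W) : F), Subgroup.mem_centralizer_singleton_iff.2 (hWz _ (1 : W).2)⟩ :
          Subgroup.centralizer ({z} : Set F)) = 1 := rfl
        rw [this, map_one]; rfl
      mul_smul := fun a b v => by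
        show h.act ⟨((a * b : W) : F), _⟩ v = h.act ⟨a, _⟩ (h.act ⟨b, _⟩ v)
        have : (⟨((a * b : W) : F), Subgroup.mem_centralizer_singleton_iff.2 (hWz _ (a * b).2)⟩ :
          Subgroup.centralizer ({z} : Set F)) =
            ⟨a, Subgroup.mem_centralizer_singleton_iff.2 (hWz a a.2)⟩ *
            ⟨b, Subgroup.mem_centralizer_singleton_iff.2 (hWz b b.2)⟩ := rfl
        rw [this, map_mul]; rfl }
  have hsm : ∀ (w : W) (v : h.V), w • v =
      h.act ⟨w, Subgroup.mem_centralizer_singleton_iff.2 (hWz w w.2)⟩ v := fun _ _ => rfl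
  obtain ⟨x0, hx0, hx01, hx0z⟩ := hQ
  have hne : h.pr ⟨x0, hx0⟩ ≠ 0 := by
    intro h1
    rcases h.pr_eq_zero.1 h1 with h2 | h2
    · exact hx01 h2
    · exact hx0z h2
  have h2V : 2 ∣ Nat.card h.V := by
    have h1 : addOrderOf (h.pr ⟨x0, hx0⟩) = 2 := by
      apply addOrderOf_eq_prime
      · rw [two_nsmul]; exact h.add_self _
      · exact hne
    rw [← h1]
    exact addOrderOf_dvd_natCard _
  have h0 : (0 : h.V) ∈ MulAction.fixedPoints W h.V := fun w => by
    rw [hsm, map_zero]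
  obtain ⟨v, hv, hv0⟩ := hW.exists_fixed_point_of_prime_dvd_card_of_fixed_point h.V h2V h0
  obtain ⟨x, rfl⟩ := h.pr_surjective v
  refine ⟨x, x.2, ?_, ?_, ?_⟩
  · intro h1
    exact hv0 (h.pr_eq_zero.2 (Or.inl h1)).symm
  · intro h1
    exact hv0 (h.pr_eq_zero.2 (Or.inr h1)).symm
  · intro w hw
    have h1 := hv ⟨w, hw⟩
    rw [hsm, h.act_pr, h.pr_eq_pr] at h1
    exact h1

/-- a 2-subgroup of `C_F(z)` normalised by `E` modulo `R` lies in `R` -/
theorem le_of_inv [Finite F] (h : Frame K z R E Om) {W : Subgroup F} (hW : IsPGroup 2 W)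
    (hWz : ∀ w ∈ W, w * z = z * w)
    (hinv : ∀ u ∈ E, ∀ w ∈ W, ∃ w' ∈ W, ∃ r ∈ R, u⁻¹ * w * u = w' * r) : W ≤ R := by
  have hL := large h
  obtain ⟨x, hx, hx1, hxz, hxW⟩ := exists_fix hL (exists_nontriv h) hW hWz
  have hRz : ∀ y ∈ R, y * z = z * y := hL.comm_z
  have h1 := h.irr (fixQ hL (W : Set F)) (fun y hy => hy.1) (by
    rintro u hu y ⟨hyR, hy⟩
    refine ⟨h.norm u (h.Ez u hu) y hyR, fun w hw => ?_⟩
    obtain ⟨w', hw', r, hr, e⟩ := hinv u hu w hw
    have e1 : w * (u * y * u⁻¹) * w⁻¹ = u * (w' * (r * y * r⁻¹) * w'⁻¹) * u⁻¹ := by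
      have e2 : w = u * (w' * r) * u⁻¹ := by rw [← e]; group
      rw [e2]; group
    have hzc : ∀ t : F, t * z = z * t → t * z * t⁻¹ = z := by
      intro t ht; rw [ht, mul_inv_cancel_right]
    have hw'z := hzc w' (hWz w' hw')
    have huz := hzc u (h.Ez u hu)
    have hry : r * y * r⁻¹ = y ∨ r * y * r⁻¹ = y * z := by
      rcases hL.comm r hr y hyR with h2 | h2
      · left; rw [h2, mul_inv_cancel_right]
      · right
        rw [h2, mul_assoc, mul_assoc]
        congr 1
        rw [← mul_assoc, hRz r hr, mul_inv_cancel_right]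
    have hzz : y * z * z = y := by rw [mul_assoc, h.zz, mul_one]
    have c1 : ∀ t : F, u * (t * z) * u⁻¹ = u * t * u⁻¹ * z := by
      intro t
      calc u * (t * z) * u⁻¹ = u * t * u⁻¹ * (u * z * u⁻¹) := by group
        _ = _ := by rw [huz]
    have c2 : ∀ t : F, w' * (t * z) * w'⁻¹ = w' * t * w'⁻¹ * z := by
      intro t
      calc w' * (t * z) * w'⁻¹ = w' * t * w'⁻¹ * (w' * z * w'⁻¹) := by group
        _ = _ := by rw [hw'z]
    rw [e1]
    rcases hry with h2 | h2 <;> rcases hy w' hw' with h3 | h3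
    · left; rw [h2, h3]
    · right; rw [h2, h3, c1]
    · right; rw [h2, c2, h3, c1]
    · left; rw [h2, c2, h3, hzz])
  rcases h1 with h1 | h1
  · exfalso
    rcases h1 x ⟨hx, hxW⟩ with h2 | h2
    · exact hx1 h2
    · exact hxz h2
  · intro w hw
    apply mem_of_triv hL (hWz w hw)
    intro y hy
    rw [← h1] at hy
    exact hy.2 w hw

/-- `z` as an element of `K` -/
def zK (h : Frame K z R E Om) : K := ⟨z, h.EK (h.RE h.zR)⟩

/-- the properties of `P` -/
structure PS (h : Frame K z R E Om) (P : Subgroup K) : Prop where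
  cen : ∀ x ∈ P, x * zK h = zK h * x
  perf : ⁅P, P⁆ = P
  der : ∃ m, TR.dser m (centralizer ({zK h} : Set K)) ≤ P
  E_le : ∀ x : K, (x : F) ∈ E → x ∈ P

theorem exists_PS [Finite F] (h : Frame K z R E Om) : ∃ P : Subgroup K, PS h P := by
  obtain ⟨n, hn⟩ := SheetOf.exists_perfect (centralizer ({zK h} : Set K))
  have h1 : TR.dser n (centralizer ({zK h} : Set K)) ≤ centralizer ({zK h} : Set K) := TR.dser_le n _
  refine ⟨TR.dser n (centralizer ({zK h} : Set K)), fun x hx => mem_centralizer_singleton_iff.1 (h1 hx), hn,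
    ⟨n, le_rfl⟩, ?_⟩
  have hE : ⁅E.subgroupOf K, E.subgroupOf K⁆ = E.subgroupOf K := by
    apply Subgroup.map_injective K.subtype_injective
    rw [Subgroup.map_commutator, Subgroup.map_subgroupOf_eq_of_le h.EK, h.perf]
  have hEC : E.subgroupOf K ≤ centralizer ({zK h} : Set K) := by
    intro x hx
    rw [mem_centralizer_singleton_iff]
    exact Subtype.ext (h.Ez x hx)
  have h2 := TR.dser_mono n hEC
  rw [TR.dser_of_perfect n hE] at h2
  intro x hx
  exact h2 hx

section

variable {h : Frame K z R E Om} {P : Subgroup K}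

theorem PS.zF (hP : PS h P) {x : K} (hx : x ∈ P) : (x : F) * z = z * x := congrArg Subtype.val (hP.cen x hx)

theorem PS.R_le (hP : PS h P) {x : K} (hx : (x : F) ∈ R) : x ∈ P := hP.E_le x (h.RE hx)

theorem PS.zP (hP : PS h P) : zK h ∈ P := hP.R_le h.zR

/-- an automorphism of `P` preserves `R` -/
theorem map_R [Finite F] (hP : PS h P) (β : MulAut P) {x : P}
    (hx : ((x : K) : F) ∈ R) : ((β x : K) : F) ∈ R := by
  let RP : Subgroup P := (R.subgroupOf K).subgroupOf P
  let W : Subgroup F := (((RP.map β.toMonoidHom).map P.subtype).map K.subtype)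
  have hRP2 : IsPGroup 2 RP := by
    intro y
    refine ⟨2, Subtype.ext (Subtype.ext (Subtype.ext ?_))⟩
    show (((y : P) : K) : F) ^ (2 ^ 2) = 1
    have hy : (((y : P) : K) : F) ∈ R := y.2
    have e : (((y : P) : K) : F) ^ (2 ^ 2) = ((((y : P) : K) : F) * (((y : P) : K) : F)) *
        ((((y : P) : K) : F) * (((y : P) : K) : F)) := by
      rw [show (2 : ℕ) ^ 2 = 4 by norm_num, pow_succ, pow_succ, pow_succ, pow_one]; group
    rw [e]
    rcases h.sq _ hy with h1 | h1
    · rw [h1, one_mul]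
    · rw [h1, h.zz]
  have hW : IsPGroup 2 W := ((hRP2.map _).map _).map _
  have hle : W ≤ R := by
    apply le_of_inv h hW
    · rintro _ ⟨_, ⟨y, _, rfl⟩, rfl⟩
      exact hP.zF y.2
    · rintro u hu _ ⟨_, ⟨_, ⟨y, hy, rfl⟩, rfl⟩, rfl⟩
      let u' : P := ⟨⟨u, h.EK hu⟩, hP.E_le _ hu⟩
      refine ⟨u⁻¹ * (((β y : P) : K) : F) * u, ?_, 1, R.one_mem, by rw [mul_one]; rfl⟩
      refine ⟨_, ⟨β ((β.symm u')⁻¹ * y * β.symm u'), ⟨_, ?_, rfl⟩, rfl⟩, ?_⟩
      · show ((((β.symm u')⁻¹ * y * β.symm u' : P) : K) : F) ∈ R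
        have h1 := h.norm ((((β.symm u')⁻¹ : P) : K) : F) (hP.zF ((β.symm u')⁻¹).2) _ hy
        have e : ((((β.symm u')⁻¹ * y * β.symm u' : P) : K) : F) =
            ((((β.symm u')⁻¹ : P) : K) : F) * ((y : K) : F) * (((((β.symm u')⁻¹ : P) : K) : F))⁻¹ := by
          simp
        rw [e]; exact h1
      · show ((((β ((β.symm u')⁻¹ * y * β.symm u')) : P) : K) : F) = _
        rw [map_mul, map_mul, map_inv, MulEquiv.apply_symm_apply]
        rfl
  exact hle ⟨_, ⟨β x, ⟨x, hx, rfl⟩, rfl⟩, rfl⟩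

theorem coe_injective {x y : P} (hxy : ((x : K) : F) = y) : x = y := Subtype.ext (Subtype.ext hxy)

/-- **every automorphism of `P` fixing `z` is induced by `C_F(z)`** -/
theorem key [Finite F] (hP : PS h P) (β : MulAut P) (hβ : β ⟨zK h, hP.zP⟩ = ⟨zK h, hP.zP⟩) :
    ∃ g : F, g * z = z * g ∧ ∀ x : P, ((β x : K) : F) = g * x * g⁻¹ := by
  classical
  have hβ' : β.symm ⟨zK h, hP.zP⟩ = ⟨zK h, hP.zP⟩ := by
    rw [MulEquiv.symm_apply_eq]; exact hβ.symm
  let inc : R → P := fun r => ⟨⟨r, h.EK (h.RE r.2)⟩, hP.R_le r.2⟩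
  have hinc : ∀ r : R, (((inc r : P) : K) : F) = r := fun _ => rfl
  let f : MulAut R :=
    { toFun := fun r => ⟨((β (inc r) : K) : F), map_R hP β r.2⟩
      invFun := fun r => ⟨((β.symm (inc r) : K) : F), map_R hP β.symm r.2⟩
      left_inv := fun r => by
        apply Subtype.ext
        show ((β.symm (inc ⟨((β (inc r) : K) : F), _⟩) : K) : F) = r
        have e : inc ⟨((β (inc r) : K) : F), map_R hP β r.2⟩ = β (inc r) := coe_injective rfl
        rw [e, MulEquiv.symm_apply_apply]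
      right_inv := fun r => by
        apply Subtype.ext
        show ((β (inc ⟨((β.symm (inc r) : K) : F), _⟩) : K) : F) = r
        have e : inc ⟨((β.symm (inc r) : K) : F), map_R hP β.symm r.2⟩ = β.symm (inc r) := coe_injective rfl
        rw [e, MulEquiv.apply_symm_apply]
      map_mul' := fun r s => by
        apply Subtype.ext
        show ((β (inc (r * s)) : K) : F) = ((β (inc r) : K) : F) * ((β (inc s) : K) : F)
        have e : inc (r * s) = inc r * inc s := rfl
        rw [e, map_mul]; rfl }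
  have hfval : ∀ r : R, (f r : F) = ((β (inc r) : K) : F) := fun _ => rfl
  obtain ⟨g, hg, hgf⟩ := h.lin f (by
    rw [hfval]
    have e : inc ⟨z, h.zR⟩ = ⟨zK h, hP.zP⟩ := rfl
    rw [e, hβ]; rfl) (by
    intro r hr
    by_contra hcon
    let ψ : F → F := fun y => if hy : y ∈ K ∧ ∀ hyK : y ∈ K, (⟨y, hyK⟩ : K) ∈ P then
      ((β ⟨⟨y, hy.1⟩, hy.2 hy.1⟩ : K) : F) else y
    have hψ : ∀ x : P, ψ ((x : K) : F) = ((β x : K) : F) := by
      intro x
      simp only [ψ]
      rw [dif_pos ⟨x.1.2, fun _ => x.2⟩]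
    have h1 : {b : F | ∃ u ∈ E, u * (f r : F) * u⁻¹ = b} ⊆ ψ '' Om := by
      rintro _ ⟨u, hu, rfl⟩
      let u' : P := ⟨⟨u, h.EK hu⟩, hP.E_le _ hu⟩
      refine ⟨(((β.symm u' * inc r * (β.symm u')⁻¹ : P) : K) : F), ?_, ?_⟩
      · have h2 := h.OmC (((β.symm u' : P) : K) : F) (hP.zF (β.symm u').2) r hr
        simpa using h2
      · rw [hψ, map_mul, map_mul, map_inv, MulEquiv.apply_symm_apply]
        rfl
    have h2 := h.OmOther (f r) (f r).2 (by
      intro h3
      have h4 : f r = f 1 := by rw [map_one]; exact Subtype.ext h3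
      have h5 := f.injective h4
      have h6 : (r : F) = 1 := by rw [h5]; rfl
      -- `1` is not in `Om`: else all the other elements... use the class of `f r = 1`
      exact absurd hcon (by
        rw [not_not, h3, ← h6]; exact hr)) (by
      intro h3
      have h4 : f r = f ⟨z, h.zR⟩ := by
        apply Subtype.ext
        rw [h3, hfval]
        have e : inc ⟨z, h.zR⟩ = ⟨zK h, hP.zP⟩ := rfl
        rw [e, hβ]; rfl
      have h5 := f.injective h4
      have h6 : (r : F) = z := by rw [h5]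
      exact hcon (by rw [h3, ← h6]; exact hr)) hcon
    have h3 := Set.ncard_le_ncard h1 (Set.toFinite _)
    have h4 := Set.ncard_image_le (f := ψ) (Set.toFinite Om)
    have h5 := h.OmCard
    omega)
  refine ⟨g, hg, ?_⟩
  have hgi : g⁻¹ * z = z * g⁻¹ := by
    rw [inv_mul_eq_iff_eq_mul, ← mul_assoc, hg, mul_assoc, mul_inv_cancel, mul_one]
  -- the difference is central
  have hdiff : ∀ x : P, ((β x : K) : F) = g * x * g⁻¹ ∨ ((β x : K) : F) = g * x * g⁻¹ * z := by
    intro x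
    have h1 : ∀ s ∈ R, ((g * x * g⁻¹)⁻¹ * ((β x : K) : F)) * s = s * ((g * x * g⁻¹)⁻¹ * ((β x : K) : F)) := by
      intro s hs
      -- `s = g r g⁻¹`
      have hr : g⁻¹ * s * g ∈ R := by
        have := h.norm g⁻¹ hgi s hs
        rwa [inv_inv] at this
      have hsr : s = ((β (inc ⟨g⁻¹ * s * g, hr⟩) : K) : F) := by
        rw [← hfval, hgf]
        show s = g * (g⁻¹ * s * g) * g⁻¹
        group
      have hxr : (x : K) * (x : K)⁻¹ = 1 := mul_inv_cancel _
      have h2 : ((x : K) : F) * (g⁻¹ * s * g) * ((x : K) : F)⁻¹ ∈ R := h.norm _ (hP.zF x.2) _ hr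
      have h3 : ((β x : K) : F) * s * ((β x : K) : F)⁻¹ =
          g * (((x : K) : F) * (g⁻¹ * s * g) * ((x : K) : F)⁻¹) * g⁻¹ := by
        have h4 := hgf ⟨_, h2⟩
        rw [hfval] at h4
        have e : inc ⟨((x : K) : F) * (g⁻¹ * s * g) * ((x : K) : F)⁻¹, h2⟩ =
            x * inc ⟨g⁻¹ * s * g, hr⟩ * x⁻¹ := coe_injective rfl
        rw [e, map_mul, map_mul, map_inv] at h4
        conv_lhs => rw [hsr]
        exact h4
      have h4 : ((β x : K) : F) * s = (g * x * g⁻¹) * s * (g * x * g⁻¹)⁻¹ * ((β x : K) : F) := by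
        rw [← mul_inv_eq_iff_eq_mul, h3]; group
      calc (g * x * g⁻¹)⁻¹ * ((β x : K) : F) * s = (g * x * g⁻¹)⁻¹ * (((β x : K) : F) * s) := by group
        _ = (g * x * g⁻¹)⁻¹ * ((g * x * g⁻¹) * s * (g * x * g⁻¹)⁻¹ * ((β x : K) : F)) := by rw [h4]
        _ = _ := by group
    rcases h.cent _ h1 with h2 | h2
    · left; rw [inv_mul_eq_one] at h2; exact h2.symm
    · right; rw [inv_mul_eq_iff_eq_mul] at h2; exact h2
  -- `P` is perfect
  let N : Subgroup K :=
    { carrier := {x | ∃ hx : x ∈ P, ((β ⟨x, hx⟩ : K) : F) = g * x * g⁻¹}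
      one_mem' := ⟨P.one_mem, by
        have e : (⟨1, P.one_mem⟩ : P) = 1 := rfl
        rw [e, map_one]; simp⟩
      mul_mem' := by
        rintro x y ⟨hx, hx'⟩ ⟨hy, hy'⟩
        refine ⟨P.mul_mem hx hy, ?_⟩
        have e : (⟨x * y, P.mul_mem hx hy⟩ : P) = ⟨x, hx⟩ * ⟨y, hy⟩ := rfl
        rw [e, map_mul, Subgroup.coe_mul, Subgroup.coe_mul, hx', hy', Subgroup.coe_mul]; group
      inv_mem' := by
        rintro x ⟨hx, hx'⟩
        refine ⟨P.inv_mem hx, ?_⟩
        have e : (⟨x⁻¹, P.inv_mem hx⟩ : P) = ⟨x, hx⟩⁻¹ := rfl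
        rw [e, map_inv, Subgroup.coe_inv, Subgroup.coe_inv, hx', Subgroup.coe_inv]; group }
  have hN : P ≤ N := by
    rw [← hP.perf, Subgroup.commutator_le]
    intro x hx y hy
    have hxy : ⁅x, y⁆ ∈ P := by
      have := Subgroup.commutator_mem_commutator hx hy
      rwa [hP.perf] at this
    refine ⟨hxy, ?_⟩
    have e : (⟨⁅x, y⁆, hxy⟩ : P) = ⁅(⟨x, hx⟩ : P), ⟨y, hy⟩⁆ := rfl
    have hzc : ∀ t : F, t * z = z * t → z * t * z = t := by
      intro t ht; rw [← ht, mul_assoc, h.zz, mul_one]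
    have hXz : (g * x * g⁻¹) * z = z * (g * x * g⁻¹) := by
      calc (g * (x : F) * g⁻¹) * z = g * (x : F) * (g⁻¹ * z) := by group
        _ = g * ((x : F) * z) * g⁻¹ := by rw [hgi]; group
        _ = (g * z) * (x : F) * g⁻¹ := by rw [hP.zF hx]; group
        _ = z * (g * x * g⁻¹) := by rw [hg]; group
    have hYz : (g * y * g⁻¹) * z = z * (g * y * g⁻¹) := by
      calc (g * (y : F) * g⁻¹) * z = g * (y : F) * (g⁻¹ * z) := by group
        _ = g * ((y : F) * z) * g⁻¹ := by rw [hgi]; group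
        _ = (g * z) * (y : F) * g⁻¹ := by rw [hP.zF hy]; group
        _ = z * (g * y * g⁻¹) := by rw [hg]; group
    rw [e, map_commutatorElement, commutatorElement_def, commutatorElement_def]
    have hz1 : z⁻¹ = z := inv_eq_of_mul_eq_one_left h.zz
    show ((β ⟨x, hx⟩ : K) : F) * ((β ⟨y, hy⟩ : K) : F) * ((β ⟨x, hx⟩ : K) : F)⁻¹ * ((β ⟨y, hy⟩ : K) : F)⁻¹ =
      g * ((x : F) * y * (x : F)⁻¹ * (y : F)⁻¹) * g⁻¹
    have hx2 := hdiff ⟨x, hx⟩
    have hy2 := hdiff ⟨y, hy⟩
    have hgoal : g * ((x : F) * y * (x : F)⁻¹ * (y : F)⁻¹) * g⁻¹ =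
        (g * x * g⁻¹) * (g * y * g⁻¹) * (g * x * g⁻¹)⁻¹ * (g * y * g⁻¹)⁻¹ := by group
    rw [hgoal]
    generalize g * (x : F) * g⁻¹ = X at hXz hx2 ⊢
    generalize g * (y : F) * g⁻¹ = Y at hYz hy2 ⊢
    have hXi : z * X⁻¹ = X⁻¹ * z := by
      rw [eq_inv_mul_iff_mul_eq, ← mul_assoc, hXz, mul_inv_cancel_right]
    have hYi : z * Y⁻¹ = Y⁻¹ * z := by
      rw [eq_inv_mul_iff_mul_eq, ← mul_assoc, hYz, mul_inv_cancel_right]
    have hx3 : ∀ B : F, ((β ⟨x, hx⟩ : K) : F) * B * ((β ⟨x, hx⟩ : K) : F)⁻¹ = X * B * X⁻¹ ∨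
        B * z ≠ z * B := by
      intro B
      by_cases hB : B * z = z * B
      · left
        rcases hx2 with h1 | h1
        · rw [h1]
        · rw [h1, mul_inv_rev, hz1]
          calc X * z * B * (z * X⁻¹) = X * (z * B) * z * X⁻¹ := by group
            _ = X * B * (z * z) * X⁻¹ := by rw [← hB]; group
            _ = X * B * X⁻¹ := by rw [h.zz, mul_one]
      · right; exact hB
    have hy3 : ((β ⟨y, hy⟩ : K) : F) * z = z * ((β ⟨y, hy⟩ : K) : F) := hP.zF (β ⟨y, hy⟩).2
    rcases hx3 ((β ⟨y, hy⟩ : K) : F) with h1 | h1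
    · rw [h1]
      rcases hy2 with h2 | h2
      · rw [h2]
      · rw [h2, mul_inv_rev, hz1]
        calc X * (Y * z) * X⁻¹ * (z * Y⁻¹) = X * Y * (z * X⁻¹) * z * Y⁻¹ := by group
          _ = X * Y * X⁻¹ * (z * z) * Y⁻¹ := by rw [hXi]; group
          _ = X * Y * X⁻¹ * Y⁻¹ := by rw [h.zz, mul_one]
    · exact absurd hy3 h1
  intro x
  obtain ⟨hx, hx'⟩ := hN x.2
  exact hx'

/-- **every automorphism of `K` fixing `z` is induced by `C_F(z)`** -/
theorem aut [Finite F] (hP : PS h P) (α : MulAut K) (hα : α (zK h) = zK h) :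
    ∃ g : F, g * z = z * g ∧ ∀ x : K, (α x : F) = g * x * g⁻¹ := by
  have := h.nK
  have hα' : α.symm (zK h) = zK h := by rw [MulEquiv.symm_apply_eq]; exact hα.symm
  let β : MulAut P :=
    { toFun := fun x => ⟨α x, D8.Sheet.map_P hP.perf hP.cen hP.der α hα x.2⟩
      invFun := fun x => ⟨α.symm x, D8.Sheet.map_P hP.perf hP.cen hP.der α.symm hα' x.2⟩
      left_inv := fun x => Subtype.ext (α.symm_apply_apply _)
      right_inv := fun x => Subtype.ext (α.apply_symm_apply _)
      map_mul' := fun a b => Subtype.ext (map_mul α _ _) }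
  obtain ⟨g, hg, hgx⟩ := key hP β (Subtype.ext hα)
  have hgx' : ∀ x : K, x ∈ P → (α x : F) = g * x * g⁻¹ := fun x hx => hgx ⟨x, hx⟩
  have hval : ∀ x : K, ((((MulAut.conjNormal (H := K) g)⁻¹ * α) x : K) : F) = g⁻¹ * (α x : F) * g := by
    intro x
    rw [MulAut.mul_apply, MulAut.conjNormal_inv_apply]
  rcases h.fix ((MulAut.conjNormal (H := K) g)⁻¹ * α) (by
    intro x hx
    apply Subtype.ext
    rw [hval, hgx' x (hP.E_le x hx)]; group) with h1 | h1
  · refine ⟨g, hg, fun x => ?_⟩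
    have h2 := hval x
    rw [h1] at h2
    have h3 : (x : F) = g⁻¹ * (α x : F) * g := h2
    calc (α x : F) = g * (g⁻¹ * (α x : F) * g) * g⁻¹ := by group
      _ = g * x * g⁻¹ := by rw [← h3]
  · refine ⟨g * z, by rw [hg, mul_assoc, hg], fun x => ?_⟩
    have h2 := hval x
    rw [h1] at h2
    have hz1 : z⁻¹ = z := inv_eq_of_mul_eq_one_left h.zz
    calc (α x : F) = g * (g⁻¹ * (α x : F) * g) * g⁻¹ := by group
      _ = g * (z * x * z) * g⁻¹ := by rw [← h2]
      _ = g * z * x * (g * z)⁻¹ := by rw [mul_inv_rev, hz1]; group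

/-- `|K : C_K(z)|` is odd -/
theorem odd_index [Finite F] (h : Frame K z R E Om) : Odd (centralizer ({zK h} : Set K)).index := by
  have := h.nK
  have e : centralizer ({zK h} : Set K) = (centralizer ({z} : Set F)).subgroupOf K := by
    ext x
    rw [mem_centralizer_singleton_iff, mem_subgroupOf, mem_centralizer_singleton_iff]
    exact ⟨fun hx => congrArg Subtype.val hx, fun hx => Subtype.ext hx⟩
  have h1 : ((centralizer ({z} : Set F)) ⊓ K).relIndex K * K.index =
      ((centralizer ({z} : Set F)) ⊓ K).index := relIndex_mul_index inf_le_right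
  have h2 : ((centralizer ({z} : Set F)) ⊓ K).relIndex (centralizer ({z} : Set F)) *
      (centralizer ({z} : Set F)).index = ((centralizer ({z} : Set F)) ⊓ K).index :=
    relIndex_mul_index inf_le_left
  rw [inf_relIndex_right, h.two] at h1
  rw [inf_relIndex_left] at h2
  have h3 : K.relIndex (centralizer ({z} : Set F)) ∣ 2 := by
    rw [← h.two]; exact relIndex_dvd_index_of_normal _ _
  have h4 := h.odd
  rw [e]
  show Odd ((centralizer ({z} : Set F)).relIndex K)
  rcases (Nat.dvd_prime Nat.prime_two).1 h3 with h5 | h5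
  · rw [h5, one_mul, ← h1] at h2
    rw [h2] at h4
    exact absurd h4 (by simp)
  · rw [h5, ← h1] at h2
    have h6 : (centralizer ({z} : Set F)).relIndex K = (centralizer ({z} : Set F)).index := by omega
    rw [h6]; exact h4

theorem R_two (h : Frame K z R E Om) : IsPGroup 2 (R.subgroupOf K) := by
  intro y
  refine ⟨2, Subtype.ext (Subtype.ext ?_)⟩
  show ((y : K) : F) ^ (2 ^ 2) = 1
  have hy : ((y : K) : F) ∈ R := y.2
  have e : ((y : K) : F) ^ (2 ^ 2) = (((y : K) : F) * ((y : K) : F)) * (((y : K) : F) * ((y : K) : F)) := by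
    rw [show (2 : ℕ) ^ 2 = 4 by norm_num, pow_succ, pow_succ, pow_succ, pow_one]; group
  rw [e]
  rcases h.sq _ hy with h1 | h1
  · rw [h1, one_mul]
  · rw [h1, h.zz]

theorem exists_sylow [Finite F] (h : Frame K z R E Om) : ∃ S : Sylow 2 K, R.subgroupOf K ≤ S ∧
    ∀ x ∈ S, x * zK h = zK h * x := by
  obtain ⟨S, hS⟩ := SheetOf.exists_sylow _ (odd_index h)
  have hSz : ∀ x ∈ S, x * zK h = zK h * x := fun x hx => mem_centralizer_singleton_iff.1 (hS hx)
  have hconj : ∀ s ∈ S, ∀ r ∈ R.subgroupOf K, s * r * s⁻¹ ∈ R.subgroupOf K := by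
    intro s hs r hr
    exact h.norm (s : F) (congrArg Subtype.val (hSz s hs)) (r : F) hr
  have hnorm : (S : Subgroup K) ≤ normalizer ((R.subgroupOf K : Subgroup K) : Set K) := by
    intro s hs
    rw [mem_normalizer_iff]
    intro r
    constructor
    · exact fun hr => hconj s hs r hr
    · intro hr
      have h1 := hconj s⁻¹ (inv_mem hs) _ hr
      have e : s⁻¹ * (s * r * s⁻¹) * s⁻¹⁻¹ = r := by group
      rwa [e] at h1
  have h2 : IsPGroup 2 ((S : Subgroup K) ⊔ R.subgroupOf K : Subgroup K) :=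
    S.isPGroup'.to_sup_of_normal_right' (R_two h) hnorm
  have h3 := S.is_maximal' h2 le_sup_left
  exact ⟨S, (le_sup_right : R.subgroupOf K ≤ (S : Subgroup K) ⊔ R.subgroupOf K).trans h3.le, hSz⟩

theorem sylow_center (h : Frame K z R E Om) {S : Sylow 2 K} (hRS : R.subgroupOf K ≤ S) {y : K}
    (hy : ∀ x ∈ S, x * y = y * x) : y = 1 ∨ y = zK h := by
  rcases h.cent (y : F) (fun r hr => (congrArg Subtype.val (hy ⟨r, h.EK (h.RE hr)⟩ (hRS hr))).symm) with h1 | h1
  · exact Or.inl (Subtype.ext h1)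
  · exact Or.inr (Subtype.ext h1)

/-- **every automorphism of `K` is induced by `F`** -/
theorem aut_all [Finite F] [K.Normal] (hP : PS h P) (α : MulAut K) : ∃ g : F, α = MulAut.conjNormal g := by
  have : Fact (Nat.Prime 2) := ⟨Nat.prime_two⟩
  obtain ⟨S, hRS, hS⟩ := exists_sylow h
  have hcard : Nat.card ((S : Subgroup K).map α.toMonoidHom) = Nat.card S :=
    (Nat.card_congr ((S : Subgroup K).equivMapOfInjective α.toMonoidHom α.injective).toEquiv).symm
  let T : Sylow 2 K := Sylow.ofCard ((S : Subgroup K).map α.toMonoidHom) (by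
    rw [hcard, ← Sylow.card_eq_multiplicity S])
  obtain ⟨g, hg⟩ := MulAction.exists_smul_eq K T S
  have hT' : ∀ y ∈ S, ∃ x ∈ S, y = g * α x * g⁻¹ := by
    intro y hy
    have h1 : y ∈ (g • T : Sylow 2 K) := by rw [hg]; exact hy
    rw [Sylow.smul_def] at h1
    obtain ⟨t, ⟨x, hx, rfl⟩, rfl⟩ := h1
    exact ⟨x, hx, rfl⟩
  have hfix : (MulAut.conj g * α) (zK h) = zK h := by
    rw [MulAut.mul_apply, MulAut.conj_apply]
    rcases sylow_center h hRS (y := g * α (zK h) * g⁻¹) (by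
      intro y hy
      obtain ⟨x, hx, rfl⟩ := hT' y hy
      have h1 : α x * α (zK h) = α (zK h) * α x := by rw [← map_mul, ← map_mul, hS x hx]
      calc g * α x * g⁻¹ * (g * α (zK h) * g⁻¹) = g * (α x * α (zK h)) * g⁻¹ := by group
        _ = g * (α (zK h) * α x) * g⁻¹ := by rw [h1]
        _ = g * α (zK h) * g⁻¹ * (g * α x * g⁻¹) := by group) with h1 | h1
    · exfalso
      apply h.z1
      have h2 : α (zK h) = 1 := by
        calc α (zK h) = g⁻¹ * (g * α (zK h) * g⁻¹) * g := by group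
          _ = 1 := by rw [h1]; group
      have h3 : zK h = 1 := α.injective (by rw [h2, map_one])
      exact congrArg Subtype.val h3
    · exact h1
  obtain ⟨u, _, hu⟩ := aut hP _ hfix
  refine ⟨(g : F)⁻¹ * u, ?_⟩
  apply MulEquiv.ext
  intro x
  apply Subtype.ext
  rw [MulAut.conjNormal_apply]
  have h1 := hu x
  rw [MulAut.mul_apply, MulAut.conj_apply] at h1
  have h2 : (g : F) * (α x : F) * (g : F)⁻¹ = u * x * u⁻¹ := h1
  calc (α x : F) = (g : F)⁻¹ * ((g : F) * (α x : F) * (g : F)⁻¹) * g := by group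
    _ = (g : F)⁻¹ * (u * x * u⁻¹) * g := by rw [h2]
    _ = _ := by group

end

end Abs

open Abs in
/-- the index of `Inn K` in `Aut K` is 1 or 2 -/
theorem Frame.out [Finite F] (h : Frame K z R E Om) : (MulAut.conj : K →* MulAut K).range.index ∣ 2 := by
  obtain ⟨P, hP⟩ := exists_PS h
  have hnK : K.Normal := h.nK
  have hrange : (MulAut.conj : K →* MulAut K).range = K.map (MulAut.conjNormal : F →* MulAut K) := by
    ext α
    constructor
    · rintro ⟨k, rfl⟩
      exact ⟨k, k.2, MulAut.conjNormal_val⟩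
    · rintro ⟨k, hk, rfl⟩
      exact ⟨⟨k, hk⟩, (MulAut.conjNormal_val (h := ⟨k, hk⟩)).symm⟩
  have hsurj : Function.Surjective (MulAut.conjNormal : F →* MulAut K) := fun α => by
    obtain ⟨g, hg⟩ := aut_all hP α
    exact ⟨g, hg.symm⟩
  rw [hrange, ← h.two]
  exact Subgroup.index_map_dvd K hsurj

open Abs in
/-- every automorphism of `K` is induced by `F` -/
theorem Frame.exists_conj [Finite F] (h : Frame K z R E Om) (α : MulAut K) :
    ∃ g : F, ∀ x : K, (α x : F) = g * x * g⁻¹ := by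
  obtain ⟨P, hP⟩ := exists_PS h
  have hnK : K.Normal := h.nK
  obtain ⟨g, hg⟩ := aut_all hP α
  refine ⟨g, fun x => ?_⟩
  rw [hg]
  exact MulAut.conjNormal_apply g x

/-- `|Out K|` is a power of 2 -/
theorem Frame.hout [Finite F] (h : Frame K z R E Om) :
    ∃ n, (MulAut.conj : K →* MulAut K).range.index = 2 ^ n := by
  rcases (Nat.dvd_prime Nat.prime_two).1 h.out with h1 | h1
  · exact ⟨0, by rw [h1, pow_zero]⟩
  · exact ⟨1, by rw [h1, pow_one]⟩

open Abs in
theorem Abs.PS.sheetE [Finite F] {h : Frame K z R E Om} {P : Subgroup K} (hP : PS h P) :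
    D8.Sheet.SheetE (⟨z, h.EK (h.RE h.zR)⟩ : K) P (R.subgroupOf K) := by
  have hnK : K.Normal := h.nK
  have hL := large h
  have hz1 : z⁻¹ = z := inv_eq_of_mul_eq_one_left h.zz
  have hRP : R.subgroupOf K ≤ P := fun x hx => hP.R_le hx
  have hrange : (MulAut.conj : K →* MulAut K).range = K.map (MulAut.conjNormal : F →* MulAut K) := by
    ext α
    constructor
    · rintro ⟨k, rfl⟩
      exact ⟨k, k.2, MulAut.conjNormal_val⟩
    · rintro ⟨k, hk, rfl⟩
      exact ⟨⟨k, hk⟩, (MulAut.conjNormal_val (h := ⟨k, hk⟩)).symm⟩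
  have hsurj : Function.Surjective (MulAut.conjNormal : F →* MulAut K) := fun α => by
    obtain ⟨g, hg⟩ := aut_all hP α
    exact ⟨g, hg.symm⟩
  refine
    { zz := Subtype.ext h.zz
      z1 := fun h1 => h.z1 (congrArg Subtype.val h1)
      syl := ?_
      cen := hP.cen
      perf := hP.perf
      der := hP.der
      out := ?_
      schreier := ?_
      zR := h.zR
      RP := hRP
      R2 := R_two h
      Rn := fun x hx r hr => h.norm (x : F) (hP.zF hx) (r : F) hr
      Rmax := ?_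
      Rmin := ?_
      Rna := ?_
      cR := ?_
      aut := ?_
      ytrick := ?_ }
  · obtain ⟨S, hRS, hS⟩ := exists_sylow h
    exact ⟨S, hRS h.zR, hS, fun y _ hy => sylow_center h hRS hy⟩
  · -- out
    rw [hrange]
    intro h4
    have h5 := h4.trans (Subgroup.index_map_dvd K hsurj)
    rw [h.two] at h5
    revert h5; decide
  · -- schreier
    refine ⟨1, ?_⟩
    rw [TR.dser_succ, TR.dser_zero, hrange, Subgroup.commutator_le]
    intro α _ β _
    obtain ⟨a, rfl⟩ := hsurj α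
    obtain ⟨b, rfl⟩ := hsurj β
    rw [← map_commutatorElement]
    refine ⟨⁅a, b⁆, ?_, rfl⟩
    have h2 : K.index = 2 := h.two
    show ⁅a, b⁆ ∈ K
    rw [commutatorElement_def, mul_mem_iff_of_index_two h2, mul_mem_iff_of_index_two h2,
      mul_mem_iff_of_index_two h2, inv_mem_iff, inv_mem_iff]
    tauto
  · -- Rmax
    intro B hB hB2 hBn
    let W : Subgroup F := B.map K.subtype
    have hW : W ≤ R := by
      apply le_of_inv h (hB2.map _)
      · rintro _ ⟨b, hb, rfl⟩
        exact hP.zF (hB hb)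
      · rintro u hu _ ⟨b, hb, rfl⟩
        have hu' : (⟨u, h.EK hu⟩ : K) ∈ P := hP.E_le _ hu
        refine ⟨u⁻¹ * (b : F) * u, ⟨(⟨u, h.EK hu⟩ : K)⁻¹ * b * (⟨u, h.EK hu⟩ : K), ?_, rfl⟩, 1, R.one_mem, ?_⟩
        · have h1 := hBn _ (P.inv_mem hu') b hb
          rw [inv_inv] at h1
          exact h1
        · rw [mul_one]; rfl
    intro b hb
    exact hW ⟨b, hb, rfl⟩
  · -- Rmin
    intro B hB hBn
    have h1 := h.irr (B.map K.subtype) (by
      rintro _ ⟨b, hb, rfl⟩
      exact hB hb) (by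
      rintro g hg _ ⟨b, hb, rfl⟩
      exact ⟨_, hBn ⟨g, h.EK hg⟩ (hP.E_le _ hg) b hb, rfl⟩)
    rcases h1 with h1 | h1
    · left
      intro b hb
      rcases h1 b ⟨b, hb, rfl⟩ with h2 | h2
      · exact Or.inl (Subtype.ext h2)
      · exact Or.inr (Subtype.ext h2)
    · right
      apply le_antisymm hB
      intro r hr
      have h2 : (r : F) ∈ B.map K.subtype := by rw [h1]; exact hr
      obtain ⟨b, hb, hbr⟩ := h2
      have h3 : b = r := Subtype.ext hbr
      rwa [← h3]
  · -- Rna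
    obtain ⟨x, hx, hx1, hxz⟩ := exists_nontriv h
    by_contra hcon
    push Not at hcon
    rcases h.ctr x hx (fun s hs => by
      have h1 := hcon ⟨s, h.EK (h.RE hs)⟩ hs ⟨x, h.EK (h.RE hx)⟩ hx
      exact congrArg Subtype.val h1) with h2 | h2
    · exact hx1 h2
    · exact hxz h2
  · -- cR
    intro x _ hxr
    rcases h.cent (x : F) (fun r hr => congrArg Subtype.val (hxr ⟨r, h.EK (h.RE hr)⟩ hr)) with h1 | h1
    · show (x : F) ∈ R
      rw [h1]; exact R.one_mem
    · show (x : F) ∈ R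
      rw [h1]; exact h.zR
  · -- aut
    intro α hα2 hαz hα
    obtain ⟨g, hg, hgx⟩ := aut hP α hαz
    -- `g` is a 2-element
    obtain ⟨k, hk⟩ := hα2 ⟨α, mem_zpowers α⟩
    have hk' : α ^ 2 ^ k = 1 := congrArg Subtype.val hk
    have hpow : ∀ (n : ℕ) (x : K), ((α ^ n) x : F) = g ^ n * x * (g ^ n)⁻¹ := by
      intro n
      induction n with
      | zero => intro x; simp
      | succ n ih =>
        intro x
        rw [pow_succ', MulAut.mul_apply, hgx, ih, pow_succ']; group
    have hg2 : g ^ 2 ^ k = 1 ∨ g ^ 2 ^ k = z := by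
      apply h.cent
      intro r hr
      have h1 := hpow (2 ^ k) ⟨r, h.EK (h.RE hr)⟩
      rw [hk'] at h1
      have h2 : r = g ^ 2 ^ k * r * (g ^ 2 ^ k)⁻¹ := h1
      exact (mul_inv_eq_iff_eq_mul.1 h2.symm)
    have hg4 : g ^ 2 ^ (k + 1) = 1 := by
      rw [pow_succ, pow_mul, pow_two]
      rcases hg2 with h1 | h1
      · rw [h1, one_mul]
      · rw [h1, h.zz]
    have hg3 : IsPGroup 2 (zpowers g) := by
      rintro ⟨w, hw⟩
      obtain ⟨n, rfl⟩ := mem_zpowers_iff.1 hw
      refine ⟨k + 1, Subtype.ext ?_⟩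
      show (g ^ n) ^ 2 ^ (k + 1) = 1
      rw [← zpow_natCast, ← zpow_mul, mul_comm, zpow_mul, zpow_natCast, hg4, one_zpow]
    have hgR : g ∈ R := by
      have hle : zpowers g ≤ R := by
        apply le_of_inv h hg3
        · intro w hw
          obtain ⟨n, rfl⟩ := mem_zpowers_iff.1 hw
          exact ((Commute.zpow_left (show Commute g z from hg)) n).eq
        · intro u hu w hw
          refine ⟨w, hw, w⁻¹ * (u⁻¹ * w * u), ?_, by group⟩
          obtain ⟨n, rfl⟩ : ∃ n : ℕ, g ^ n = w := mem_powers_iff_mem_zpowers.2 hw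
          have hgn : g ^ n * z = z * g ^ n := ((Commute.pow_left (show Commute g z from hg)) n).eq
          have hpn : ∀ (n : ℕ) (x : K), x ∈ P → x⁻¹ * (α ^ n) x ∈ R.subgroupOf K := by
            intro n
            induction n with
            | zero => intro x _; simp
            | succ n ih =>
              intro x hx
              have h1 := ih x hx
              have h2 : (α ^ n) x ∈ P := by
                have h3 := P.mul_mem hx (hRP h1)
                rwa [mul_inv_cancel_left] at h3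
              have h4 := hα _ h2
              have h5 := mul_mem h1 h4
              rw [pow_succ', MulAut.mul_apply]
              have e : x⁻¹ * (α ^ n) x * (((α ^ n) x)⁻¹ * α ((α ^ n) x)) = x⁻¹ * α ((α ^ n) x) := by group
              rwa [e] at h5
          have h1 : u⁻¹ * (g ^ n * u * (g ^ n)⁻¹) ∈ R := by
            have h2 := hpn n ⟨u, h.EK hu⟩ (hP.E_le _ hu)
            have h3 : u⁻¹ * (((α ^ n) ⟨u, h.EK hu⟩ : K) : F) ∈ R := h2
            rwa [hpow n ⟨u, h.EK hu⟩] at h3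
          have h2 := h.norm (g ^ n)⁻¹ (by
            rw [inv_mul_eq_iff_eq_mul, ← mul_assoc, hgn, mul_assoc, mul_inv_cancel, mul_one]) _ h1
          have e : (g ^ n)⁻¹ * (u⁻¹ * (g ^ n * u * (g ^ n)⁻¹)) * (g ^ n)⁻¹⁻¹ =
            (g ^ n)⁻¹ * (u⁻¹ * g ^ n * u) := by group
          rwa [e] at h2
      exact hle (mem_zpowers g)
    refine ⟨⟨g, h.EK (h.RE hgR)⟩, hgR, ?_⟩
    apply MulEquiv.ext
    intro x
    apply Subtype.ext
    rw [hgx x, MulAut.conj_apply]
    rfl
  · -- the `y`-trick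
    obtain ⟨k, hk, t, ht, htz, htw, hw, hkz, hkR⟩ := h.yt
    refine ⟨⟨k, hk⟩, hP.E_le _ hkz, hkR, hP.E_le _ hw, ?_⟩
    intro β hβ
    obtain ⟨g, hg, hgx⟩ := key hP β (Subtype.ext hβ)
    by_cases hgK : g ∈ K
    · refine ⟨⟨g, hgK⟩, Subtype.ext hg, Subtype.ext ?_⟩
      exact hgx _
    · have hgt : g * t ∈ K := by
        rw [mul_mem_iff_of_index_two h.two]
        exact ⟨fun h1 => absurd h1 hgK, fun h1 => absurd h1 ht⟩
      refine ⟨⟨g * t, hgt⟩, Subtype.ext ?_, Subtype.ext ?_⟩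
      · show g * t * z = z * (g * t)
        rw [mul_assoc, htz, ← mul_assoc, hg, mul_assoc]
      · refine (hgx _).trans ?_
        show g * (k⁻¹ * z * k) * g⁻¹ = g * t * (k⁻¹ * z * k) * (g * t)⁻¹
        calc g * (k⁻¹ * z * k) * g⁻¹ = g * ((k⁻¹ * z * k) * t) * t⁻¹ * g⁻¹ := by group
          _ = g * (t * (k⁻¹ * z * k)) * t⁻¹ * g⁻¹ := by rw [htw]
          _ = _ := by group

open Abs in
/-- **The sheet of type (E) from a frame.** -/
theorem Frame.sheetE [Finite F] (h : Frame K z R E Om) :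
    ∃ P : Subgroup K, D8.Sheet.SheetE (⟨z, h.EK (h.RE h.zR)⟩ : K) P (R.subgroupOf K) := by
  obtain ⟨P, hP⟩ := exists_PS h
  exact ⟨P, hP.sheetE⟩

open Abs in
/-- **The sheet of type (E) from a frame, with `P = E`.** -/
theorem Frame.sheetE_of [Finite F] (h : Frame K z R E Om)
    (hd : ∃ m, TR.dser m (centralizer ({⟨z, h.EK (h.RE h.zR)⟩} : Set K)) ≤ E.subgroupOf K) :
    D8.Sheet.SheetE (⟨z, h.EK (h.RE h.zR)⟩ : K) (E.subgroupOf K) (R.subgroupOf K) := by
  refine PS.sheetE (h := h) ⟨fun x hx => Subtype.ext (h.Ez x hx), ?_, hd, fun x hx => hx⟩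
  apply Subgroup.map_injective K.subtype_injective
  rw [Subgroup.map_commutator, Subgroup.map_subgroupOf_eq_of_le h.EK, h.perf]

end Cfsg.Agent.KFacts.FiTF

end

-- merged: Cfsg.Agent.KFacts.FiTF.FrameOf
section

/-!
# `Fi24'`: the frame from its pieces
-/

set_option autoImplicit false

namespace Cfsg.Agent.KFacts.FiTF.FrameOf

open Cfsg Cfsg.Spor Subgroup
open Cfsg.Agent.KFacts.FiTF.Defs

theorem frame_of (htr : RQ.Tran)
    (cent : ∀ g : Spor.Fi24, (∀ r ∈ R, g * r = r * g) → g = 1 ∨ g = z)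
    (odd : Odd (centralizer ({z} : Set Spor.Fi24)).index)
    (card : Nat.card (centralizer ({z} : Set Spor.Fi24)) = 321052999680)
    (perf : ⁅E, E⁆ = E)
    (fix : ∀ α : MulAut (commutator Spor.Fi24), (∀ e ∈ Dz, ∀ f ∈ Dz, ∀ x : commutator Spor.Fi24,
      (x : Spor.Fi24) = e * f → α x = x) → α = 1 ∨ ∀ x : commutator Spor.Fi24, (α x : Spor.Fi24) = z * x * z)
    (yt : ∃ k ∈ commutator Spor.Fi24, ∃ t : Spor.Fi24, t ∉ commutator Spor.Fi24 ∧ t * z = z * t ∧
      t * (k⁻¹ * z * k) = k⁻¹ * z * k * t ∧ k⁻¹ * z * k ∈ E ∧ k * z * k⁻¹ ∈ E ∧ k * z * k⁻¹ ∉ R) :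
    Frame (commutator Spor.Fi24) z R E RQ.Om := by
  have : Finite Spor.Fi24 := Cfsg.Agent.R08.FiTwentyFour.finite_Fi24
  exact RQ.sys.frame inferInstance Cfsg.Agent.R08.FiTwentyFour.index_commutator RQ.E_le (RQ.norm htr) cent odd
    perf (RQ.omC htr) (by rw [card]; norm_num)
    (fun α hα => fix α fun e he f hf x hx => hα x (hx ▸ RQ.mul_mem_E he hf)) yt

end Cfsg.Agent.KFacts.FiTF.FrameOf

end

-- merged: Cfsg.Agent.KFacts.FiTF.Order
section

/-!
# `Fi24'`: the order of `C_F(z)`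
-/

set_option autoImplicit false

namespace Cfsg.Agent.KFacts.FiTF.Order

open Cfsg Cfsg.Spor Cfsg.Spor.Fi24 Subgroup
open Cfsg.Agent.Fischer.Fi24Rep (gen)
open Cfsg.Agent.R08.FiTwentyFour (L)
open Cfsg.Agent.R08.TetTwo (IsTet Mate)
open Cfsg.Agent.R08 (TetBig.orb TetBig.C4 TetBig.mem_C4 TetBig.quad TetBig.card_eq TetBigInst.hyp)
open Cfsg.Agent.R08.TetBig (orb C4 mem_C4 quad card_eq)
open Cfsg.Agent.KFacts.FiTF.Defs Cfsg.Agent.KFacts.FiTF.Tet Cfsg.Agent.KFacts.FiTF.RQ
  Cfsg.Agent.KFacts.FiTF.QuasiA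

/-- `C_F(z)` permutes the tetrads of `z` transitively -/
theorem quadz {a b c d a' b' c' d' : Spor.Fi24} (h : IsTet L z a b c d) (h' : IsTet L z a' b' c' d') :
    ∃ g ∈ commutator Spor.Fi24, g * z = z * g ∧ g * a * g⁻¹ = a' ∧ g * b * g⁻¹ = b' ∧ g * c * g⁻¹ = c' ∧
      g * d * g⁻¹ = d' := by
  obtain ⟨g, hg, h1, h2, h3, h4⟩ := quad TetBigInst.hyp h h'
  refine ⟨g, hg, ?_, h1, h2, h3, h4⟩
  have h5 : g * z * g⁻¹ = z := by
    calc g * z * g⁻¹ = g * (a * b * c * d) * g⁻¹ := by rw [h.prod]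
      _ = (g * a * g⁻¹) * (g * b * g⁻¹) * (g * c * g⁻¹) * (g * d * g⁻¹) := by group
      _ = z := by rw [h1, h2, h3, h4, h'.prod]
  exact mul_inv_eq_iff_eq_mul.1 h5

theorem hT : IsTet L z (D 0 0) (D 0 1) (D 0 2) (D 0 3) := isTet (by norm_num)

/-- the third: `C_F(z, a, b, c)` -/
theorem card3 (h : IsTet L z (D 0 0) (D 0 1) (D 0 2) (D 0 3)) :
    Nat.card ↥(centralizer ({z} : Set Spor.Fi24) ⊓ centralizer ({D 0 0} : Set Spor.Fi24) ⊓
      centralizer ({D 0 1} : Set Spor.Fi24) ⊓ centralizer ({D 0 2} : Set Spor.Fi24)) =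
    2 * Nat.card ↥(C4 (commutator Spor.Fi24) (D 0 0) (D 0 1) (D 0 2) (D 0 3)) := by
  set H := centralizer ({z} : Set Spor.Fi24) ⊓ centralizer ({D 0 0} : Set Spor.Fi24) ⊓
      centralizer ({D 0 1} : Set Spor.Fi24) ⊓ centralizer ({D 0 2} : Set Spor.Fi24) with hH
  have hmem : ∀ g, g ∈ H ↔ ((g * z = z * g ∧ g * D 0 0 = D 0 0 * g) ∧ g * D 0 1 = D 0 1 * g) ∧
      g * D 0 2 = D 0 2 * g := by
    intro g
    simp only [hH, Subgroup.mem_inf, Subgroup.mem_centralizer_singleton_iff]
  have h1 : commutator Spor.Fi24 ⊓ H = C4 (commutator Spor.Fi24) (D 0 0) (D 0 1) (D 0 2) (D 0 3) := by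
    ext g
    rw [Subgroup.mem_inf, hmem, mem_C4]
    constructor
    · rintro ⟨h0, ⟨⟨hz, ha⟩, hb⟩, hc⟩
      refine ⟨h0, ha, hb, hc, ?_⟩
      have e : D 0 3 = (D 0 0 * D 0 1 * D 0 2)⁻¹ * z := by rw [← h.prod]; group
      rw [e]
      have hz : Commute g z := hz
      have ha : Commute g (D 0 0) := ha
      have hb : Commute g (D 0 1) := hb
      have hc : Commute g (D 0 2) := hc
      exact ((((ha.mul_right hb).mul_right hc).inv_right).mul_right hz).eq
    · rintro ⟨h0, ha, hb, hc, hd⟩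
      refine ⟨h0, ⟨⟨?_, ha⟩, hb⟩, hc⟩
      rw [← h.prod]
      have hd : Commute g (D 0 3) := hd
      have ha : Commute g (D 0 0) := ha
      have hb : Commute g (D 0 1) := hb
      have hc : Commute g (D 0 2) := hc
      exact (((ha.mul_right hb).mul_right hc).mul_right hd).eq
  have h2 : (commutator Spor.Fi24).relIndex H = 2 := by
    have h3 : (commutator Spor.Fi24).relIndex H ∣ 2 := by
      rw [← Cfsg.Agent.R08.FiTwentyFour.index_commutator]
      exact Subgroup.relIndex_dvd_index_of_normal _ _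
    rcases (Nat.dvd_prime Nat.prime_two).1 h3 with h4 | h4
    · exfalso
      rw [Subgroup.relIndex_eq_one] at h4
      refine Cfsg.Agent.R08.FiTwentyFour.odd h.ha (h4 ((hmem _).2 ⟨⟨⟨h.comm_a.eq, rfl⟩, h.ab.eq⟩, h.ac.eq⟩))
    · exact h4
  rw [← h1, ← h2, Subgroup.relIndex, ← Subgroup.inf_subgroupOf_right,
    ← Nat.card_congr (Subgroup.subgroupOfEquivOfLe (inf_le_right : commutator Spor.Fi24 ⊓ H ≤ H)).toEquiv,
    Subgroup.index_mul_card]

theorem card_eq' : Nat.card (centralizer ({z} : Set Spor.Fi24)) =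
    504 * (3 * (2 * (2 * Nat.card ↥(C4 (commutator Spor.Fi24) (D 0 0) (D 0 1) (D 0 2) (D 0 3))))) := by
  have h := hT
  rw [orb (centralizer ({z} : Set Spor.Fi24)) (D 0 0) Dz ?_, FixZ.ncard_Dz,
    orb (centralizer ({z} : Set Spor.Fi24) ⊓ centralizer ({D 0 0} : Set Spor.Fi24)) (D 0 1)
      {D 0 1, D 0 2, D 0 3} ?_, Set.ncard_eq_three.2 ⟨_, _, _, h.nbc, h.nbd, h.ncd, rfl⟩,
    orb (centralizer ({z} : Set Spor.Fi24) ⊓ centralizer ({D 0 0} : Set Spor.Fi24) ⊓
      centralizer ({D 0 1} : Set Spor.Fi24)) (D 0 2) {D 0 2, D 0 3} ?_, Set.ncard_pair h.ncd, card3 h]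
  · -- third
    intro y
    constructor
    · rintro (rfl | rfl)
      · exact ⟨1, one_mem _, by group⟩
      · obtain ⟨g, -, hz, h1, h2, h3, h4⟩ := quadz h h.sw34
        refine ⟨g, ⟨⟨Subgroup.mem_centralizer_singleton_iff.2 hz, Subgroup.mem_centralizer_singleton_iff.2
          (mul_inv_eq_iff_eq_mul.1 h1)⟩, Subgroup.mem_centralizer_singleton_iff.2
          (mul_inv_eq_iff_eq_mul.1 h2)⟩, h3⟩
    · rintro ⟨g, ⟨⟨hz, ha⟩, hb⟩, rfl⟩
      have hz := Subgroup.mem_centralizer_singleton_iff.1 hz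
      have ha := mul_inv_eq_iff_eq_mul.2 (Subgroup.mem_centralizer_singleton_iff.1 ha)
      have hb := mul_inv_eq_iff_eq_mul.2 (Subgroup.mem_centralizer_singleton_iff.1 hb)
      have h1 := h.conj Tet.tr hz
      rw [ha, hb] at h1
      rcases h.mate_cases Tet.tr ⟨_, _, h1.sw23⟩ with h2 | h2 | h2
      · exact absurd h2.symm h1.nbc
      · exact Or.inl h2
      · exact Or.inr h2
  · -- second
    intro y
    constructor
    · rintro (rfl | rfl | rfl)
      · exact ⟨1, one_mem _, by group⟩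
      · obtain ⟨g, -, hz, h1, h2, h3, h4⟩ := quadz h h.sw23
        exact ⟨g, ⟨Subgroup.mem_centralizer_singleton_iff.2 hz, Subgroup.mem_centralizer_singleton_iff.2
          (mul_inv_eq_iff_eq_mul.1 h1)⟩, h2⟩
      · obtain ⟨g, -, hz, h1, h2, h3, h4⟩ := quadz h h.sw24
        exact ⟨g, ⟨Subgroup.mem_centralizer_singleton_iff.2 hz, Subgroup.mem_centralizer_singleton_iff.2
          (mul_inv_eq_iff_eq_mul.1 h1)⟩, h2⟩
    · rintro ⟨g, ⟨hz, ha⟩, rfl⟩
      have hz := Subgroup.mem_centralizer_singleton_iff.1 hz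
      have ha := mul_inv_eq_iff_eq_mul.2 (Subgroup.mem_centralizer_singleton_iff.1 ha)
      have h1 := h.conj Tet.tr hz
      rw [ha] at h1
      exact h.mate_cases Tet.tr ⟨_, _, h1⟩
  · -- first
    intro y
    constructor
    · intro hy
      obtain ⟨w, hw, h1⟩ := FixZ.tran y hy
      exact ⟨w, Subgroup.mem_centralizer_singleton_iff.2 (closure_z (W_le hw)), by rw [D00]; exact h1⟩
    · rintro ⟨g, hg, rfl⟩
      exact conj_Dz (Subgroup.mem_centralizer_singleton_iff.1 hg) (D_mem_Dz (by norm_num) (by norm_num))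

/-- `|C_F(z)|` -/
theorem card : Nat.card (centralizer ({z} : Set Spor.Fi24)) = 321052999680 := by
  have h1 := card_eq TetBigInst.hyp hT
  rw [Cfsg.Agent.R08.FiTwentyFour.card_commutator] at h1
  rw [card_eq']
  omega

/-- the index of `C_F(z)` is odd -/
theorem odd : Odd (centralizer ({z} : Set Spor.Fi24)).index := by
  have : Finite Spor.Fi24 := Cfsg.Agent.R08.FiTwentyFour.finite_Fi24
  have h1 := (centralizer ({z} : Set Spor.Fi24)).card_mul_index
  have h2 := (commutator Spor.Fi24).card_mul_index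
  rw [Cfsg.Agent.R08.FiTwentyFour.card_commutator, Cfsg.Agent.R08.FiTwentyFour.index_commutator] at h2
  rw [card, ← h2] at h1
  have h3 : (centralizer ({z} : Set Spor.Fi24)).index = 7819305288795 := by omega
  rw [h3]
  decide

end Cfsg.Agent.KFacts.FiTF.Order

end

-- merged: Cfsg.Agent.KFacts.FiTF.Cent
section

/-!
# `Fi24'`: `C_F(R) = ⟨z⟩`
-/

set_option autoImplicit false

namespace Cfsg.Agent.KFacts.FiTF.Cent

open Cfsg Cfsg.Spor Cfsg.Spor.Fi24 Subgroup
open Cfsg.Agent.Fischer.Fi24Rep (gen)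
open Cfsg.Agent.R08.FiTwentyFour (L)
open Cfsg.Agent.R08.TetTwo (IsTet Mate)
open Cfsg.Agent.R08.TetThree (Pairs Q)
open Cfsg.Agent.KFacts.FiTF.Defs Cfsg.Agent.KFacts.FiTF.Tet Cfsg.Agent.KFacts.FiTF.RQ
  Cfsg.Agent.KFacts.FiTF.QuasiA
open Cfsg.Agent.LargeExtra.Model Cfsg.Agent.LargeExtra.Pres
open Cfsg.Agent.KFacts.Codes
open Cfsg.Agent.KFacts.FiTF.Om (B Y)

/-- an element centralising `R` centralises the members of every tetrad -/
theorem comm_tet (htr : Tran) {g : Spor.Fi24} (hg : ∀ r ∈ R, g * r = r * g) {a b c d : Spor.Fi24}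
    (h : IsTet L z a b c d) : g * a = a * g := by
  have key : ∀ b' : Spor.Fi24, Mate L z a b' → g * a * g⁻¹ = a ∨ g * a * g⁻¹ = b' := by
    intro b' hm
    obtain ⟨ha, hb', hab, hne⟩ := hm.mem
    have h1 : a * b' ∈ R := pair_mem_R htr ⟨a, b', hm, rfl⟩
    have h2 := hg _ h1
    have h3 : a * b' = (g * a * g⁻¹) * (g * b' * g⁻¹) := by
      calc a * b' = (a * b') * g * g⁻¹ := by group
        _ = g * (a * b') * g⁻¹ := by rw [h2]
        _ = _ := by group
    rcases Cfsg.Agent.R08.TetBasic.pair_unique Tet.tr ha hb' (Tet.tr.conj g a ha) (Tet.tr.conj g b' hb') hab hne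
      (hab.map (MulAut.conj g).toMonoidHom) h3 with ⟨h4, -⟩ | ⟨h4, -⟩
    · exact Or.inl h4
    · exact Or.inr h4
  have h1 : g * a * g⁻¹ = a := by
    rcases key b ⟨_, _, h⟩ with h1 | h1
    · exact h1
    · rcases key c ⟨_, _, h.sw23⟩ with h2 | h2
      · exact h2
      · exact absurd (h1.symm.trans h2) h.nbc
  exact mul_inv_eq_iff_eq_mul.1 h1

/-- an element centralising `R` centralises `Dz` -/
theorem comm_Dz (htr : Tran) {g : Spor.Fi24} (hg : ∀ r ∈ R, g * r = r * g) {d : Spor.Fi24} (hd : d ∈ Dz) :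
    g * d = d * g := by
  obtain ⟨w, hw, rfl⟩ := htr d hd
  have hwz : Commute w z := closure_z (W_le hw)
  have h1 := (isTet (t := 0) (by norm_num)).conj Tet.tr hwz
  rw [D00] at h1
  exact comm_tet htr hg h1

/-- `l` acts nontrivially on `R/⟨z⟩` -/
theorem l_moves {h : Spor.Fi24} (hh : h ∈ R) (hx : gen .l * x 2 * (gen .l)⁻¹ = h * x 2 * h⁻¹) : False := by
  have h1 := conj_y (t := 0) (j := 2) (by norm_num) (by norm_num)
  rw [y_zero, hx] at h1
  have hx2 : x 2 = cod 12 z x 4 := (cod_pow (n := 12) (z := z) (x := x) (i := 2) (by norm_num)).symm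
  have h5 : Y 0 2 = 5 := by decide
  rw [h5] at h1
  rcases RG_comm rels Om.tri hh (x_mem (j := 2) (by norm_num)) with h2 | h2
  · rw [h2, mul_inv_cancel_right, hx2] at h1
    exact absurd (cod_injOn rels Om.tri Om.nondeg z_ne (by norm_num) (by norm_num) h1) (by norm_num)
  · rw [h2, show z * (x 2 * h) * h⁻¹ = z * x 2 by group, hx2,
      show z * cod 12 z x 4 = cod 12 z x (mulc B 12 (2 ^ 12) 4) by
        rw [← cod_mul rels Om.tri, cod_z]] at h1
    exact absurd (cod_injOn rels Om.tri Om.nondeg z_ne (by decide +kernel) (by norm_num) h1) (by decide +kernel)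

/-- **`C_F(R) = ⟨z⟩`** -/
theorem cent (htr : Tran) (g : Spor.Fi24) (hg : ∀ r ∈ R, g * r = r * g) : g = 1 ∨ g = z := by
  have hD := fun d (hd : d ∈ Dz) => comm_Dz htr hg hd
  have hT := isTet (t := 0) (by norm_num)
  have hpairs : ∀ v ∈ commutator Spor.Fi24, (∀ d ∈ Dz, d * gen .l = gen .l * d → v * d = d * v) → v ∈ R := by
    intro v hv hvD
    have hmem : ∀ i < 4, Commute v (D 0 i) := by
      intro i hi
      have hc := D_comm (t := 0) (i := i) (k := 0) (by norm_num) hi (by norm_num)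
      rw [D00] at hc
      exact hvD _ (D_mem_Dz (by norm_num) hi) hc
    rcases Cfsg.Agent.R08.TetFi24B.cent z (D 0 0) (D 0 1) (D 0 2) (D 0 3) hT v hv (hmem 0 (by norm_num))
      (hmem 1 (by norm_num)) (hmem 2 (by norm_num)) (hmem 3 (by norm_num)) (by
        intro e he h0 h1 h2 h3
        have hez : e * z = z * e := by
          rw [← hT.prod]
          exact (((h0.mul_right h1).mul_right h2).mul_right h3).eq
        have h0' := h0.eq
        rw [D00] at h0'
        exact hvD e ⟨he, hez⟩ h0') with h | h | h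
    · rw [h]; exact R.one_mem
    · rw [h]; exact z_mem
    · exact pair_mem_R htr h
  by_cases hK : g ∈ commutator Spor.Fi24
  · have hgR := hpairs g hK (fun d hd _ => hD d hd)
    exact RG_center rels Om.tri Om.nondeg z_ne hgR (fun r hr => (hg r hr).symm)
  · exfalso
    have h1 : g * gen .l ∈ commutator Spor.Fi24 :=
      (Subgroup.mul_mem_iff_of_index_two Cfsg.Agent.R08.FiTwentyFour.index_commutator).2
        (iff_of_false hK (Cfsg.Agent.R08.FiTwentyFour.odd l_mem.1))
    have h2 : g * gen .l ∈ R := hpairs _ h1 (fun d hd hdl => by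
      rw [mul_assoc, ← hdl, ← mul_assoc, hD d hd, mul_assoc])
    -- `l` acts on `R` as `g l`
    apply l_moves h2
    have hxg := hg _ (R.mul_mem (R.mul_mem h2 (x_mem (j := 2) (by norm_num))) (R.inv_mem h2))
    set r' := g * gen .l * x 2 * (g * gen .l)⁻¹ with hr'
    calc gen .l * x 2 * (gen .l)⁻¹ = g⁻¹ * r' * g := by rw [hr']; group
      _ = g⁻¹ * (r' * g) := mul_assoc _ _ _
      _ = g⁻¹ * (g * r') := by rw [← hxg]
      _ = r' := by group

end Cfsg.Agent.KFacts.FiTF.Cent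

end

-- merged: Cfsg.Agent.KFacts.FiTF.PerfE
section

/-!
# `Fi24'`: `E` is perfect
-/

set_option autoImplicit false
set_option maxRecDepth 100000

namespace Cfsg.Agent.KFacts.FiTF.PerfE

open Cfsg Cfsg.Spor Cfsg.Spor.Fi24 Subgroup
open Cfsg.Agent.Lib.PermNet Cfsg.Agent.Lib.PermNetPt Cfsg.Agent.Fischer.Fi24RepDef Cfsg.Agent.Fischer.Fi24Rep
open Cfsg.Agent.Fischer.Fi24Spider
open Cfsg.Agent.KFacts.FiTF.Defs Cfsg.Agent.KFacts.FiTF.Pts Cfsg.Agent.KFacts.FiTF.Tet Cfsg.Agent.KFacts.FiTF.RQ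
  Cfsg.Agent.KFacts.FiTF.QuasiA

open scoped commutatorElement

/-- noncommuting pairs with a common commuting member -/
theorem mem_comm {e f g : Spor.Fi24} (he : e ∈ Dz) (hf : f ∈ Dz) (hg : g ∈ Dz) (hne : e * f ≠ f * e)
    (heg : e * g = g * e) (hfg : f * g = g * f) : e * f ∈ ⁅E, E⁆ := by
  have he2 := sq he
  have hf2 := sq hf
  have hg2 := sq hg
  have h3 : e * f * e = f * e * f :=
    (Cfsg.Agent.R08.FiTwentyFour.three he.1 hf.1).resolve_left hne
  have hx : e * g ∈ E := mul_mem_E he hg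
  have hy : g * f ∈ E := mul_mem_E hg hf
  have hx1 : (e * g)⁻¹ = e * g := by
    rw [mul_inv_rev, QuasiA.inv he, QuasiA.inv hg, heg]
  have hy1 : (g * f)⁻¹ = g * f := by
    rw [mul_inv_rev, QuasiA.inv hf, QuasiA.inv hg, hfg]
  have h4 : ⁅e * g, g * f⁆ = (e * f) * (e * f) := by
    rw [commutatorElement_def, hx1, hy1]
    calc e * g * (g * f) * (e * g) * (g * f) = e * (g * g) * f * e * (g * g) * f := by group
      _ = e * f * (e * f) := by rw [hg2]; group
  have h5 : (e * f) * (e * f) ∈ ⁅E, E⁆ := h4 ▸ commutator_mem_commutator hx hy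
  -- `(ef)^3 = 1`
  have h6 : (e * f) * (e * f) * (e * f) = 1 := by
    calc (e * f) * (e * f) * (e * f) = (e * f * e) * (f * e * f) := by group
      _ = (f * e * f) * (f * e * f) := by rw [h3]
      _ = f * e * (f * f) * e * f := by group
      _ = 1 := by rw [hf2, mul_one, mul_assoc f e e, he2, mul_one, hf2]
  have h7 := mul_mem h5 h5
  have h8 : e * f = (e * f) * (e * f) * ((e * f) * (e * f)) := by
    calc e * f = 1 * (e * f) := (one_mul _).symm
      _ = (e * f) * (e * f) * (e * f) * (e * f) := by rw [h6]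
      _ = _ := by group
  rw [h8]; exact h7

theorem isPt_g : IsPt (gen .g) 8 := by
  have h : IsPt (Defs.tr [] .g) 8 := IsPt.of_word (by decide +kernel)
  have e : Defs.tr [] Gen.g = gen .g := by
    unfold Defs.tr
    rw [List.reverse_nil, List.nil_append, word_cons, word_nil, mul_one]
  rwa [e] at h

theorem chk_g : chkPt (nw wz false) 8 8 = true ∧ chkPt (nw (wD 1 0) false) 8 8 = true ∧
    chkPt (nw (wD 2 0) false) 8 8 = true ∧ chkPt (nw (wD 5 0) false) 8 8 = true := by decide +kernel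

theorem chk_0 : chkPt (nw (wD 0 0) false) (P 4 0) (P 4 0) = true := by decide +kernel

theorem g_mem : gen .g ∈ Dz := by
  refine ⟨isPt_g.mem, ?_⟩
  have h1 : z * gen .g = gen .g * z := (isPt_g.comm_iff z).2 (by
    rw [← word_wz]; exact rho_of_chkPt chk_g.1)
  exact h1.symm

theorem y1_g : y 1 * gen .g = gen .g * y 1 := (isPt_g.comm_iff (D 1 0)).2 (by
  rw [← word_wD]; exact rho_of_chkPt chk_g.2.1)
theorem y2_g : y 2 * gen .g = gen .g * y 2 := (isPt_g.comm_iff (D 2 0)).2 (by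
  rw [← word_wD]; exact rho_of_chkPt chk_g.2.2.1)
theorem y5_g : y 5 * gen .g = gen .g * y 5 := (isPt_g.comm_iff (D 5 0)).2 (by
  rw [← word_wD]; exact rho_of_chkPt chk_g.2.2.2)
theorem y0_y4 : y 0 * y 4 = y 4 * y 0 := ((isPt (t := 4) (by norm_num) (by norm_num)).comm_iff (D 0 0)).2 (by
  rw [← word_wD]; exact rho_of_chkPt chk_0)

/-- the adjacent generators are congruent modulo `⁅E, E⁆` -/
theorem adj (t : ℕ) (ht : t < 6) (h0 : 0 < t) : y t * y (pa t) ∈ ⁅E, E⁆ := by
  have hn := y_ncomm ht h0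
  have c03 := y_comm (s := 0) (t := 3) (by norm_num) (by simp)
  have c02 := y_comm (s := 0) (t := 2) (by norm_num) (by simp)
  have c31 := y_comm (s := 3) (t := 1) (by norm_num) (by simp)
  have hp := pa_lt t ht h0
  interval_cases t
  · exact mem_comm (y_mem ht) (y_mem hp) (y_mem (t := 3) (by norm_num)) hn c31 c03.symm
  · exact mem_comm (y_mem ht) (y_mem hp) g_mem hn y2_g y1_g
  · exact mem_comm (y_mem ht) (y_mem hp) (y_mem (t := 0) (by norm_num)) hn c03 c02
  · exact mem_comm (y_mem ht) (y_mem hp) (y_mem (t := 0) (by norm_num)) hn y0_y4.symm c02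
  · exact mem_comm (y_mem ht) (y_mem hp) g_mem hn y5_g y1_g

theorem conj_E {w : Spor.Fi24} (hw : w * z = z * w) : ∀ g ∈ E, w * g * w⁻¹ ∈ E := by
  intro g hg
  unfold E at hg
  induction hg using Subgroup.closure_induction with
  | mem g hg =>
    obtain ⟨e, he, f, hf, rfl⟩ := hg
    rw [show w * (e * f) * w⁻¹ = (w * e * w⁻¹) * (w * f * w⁻¹) by group]
    exact mul_mem_E (conj_Dz hw he) (conj_Dz hw hf)
  | one => rw [mul_one, mul_inv_cancel]; exact E.one_mem
  | mul a b _ _ ha hb =>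
    rw [show w * (a * b) * w⁻¹ = (w * a * w⁻¹) * (w * b * w⁻¹) by group]
    exact E.mul_mem ha hb
  | inv a _ ha =>
    rw [show w * a⁻¹ * w⁻¹ = (w * a * w⁻¹)⁻¹ by group]
    exact E.inv_mem ha

/-- **`E` is perfect** -/
theorem perf (htr : Tran) : ⁅E, E⁆ = E := by
  apply le_antisymm (commutator_le_self E)
  have hM : ∀ w ∈ Subgroup.closure Dz, ∀ m ∈ ⁅E, E⁆, w * m * w⁻¹ ∈ ⁅E, E⁆ := by
    intro w hw m hm
    have h1 : (⁅E, E⁆ : Subgroup Spor.Fi24).map (MulAut.conj w).toMonoidHom ≤ ⁅E, E⁆ := by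
      rw [map_commutator]
      have h2 : E.map (MulAut.conj w).toMonoidHom ≤ E := by
        rintro _ ⟨g, hg, rfl⟩
        exact conj_E (closure_z hw) g hg
      exact commutator_mono h2 h2
    exact h1 ⟨m, hm, rfl⟩
  apply le_of_gens hM htr
  have y1 : y 1 * y 0 ∈ ⁅E, E⁆ := adj 1 (by norm_num) (by norm_num)
  have y2 : y 2 * y 0 ∈ ⁅E, E⁆ := rel_trans (y_mem (t := 1) (by norm_num)) y1 (adj 2 (by norm_num) (by norm_num))
  have y3 : y 3 * y 0 ∈ ⁅E, E⁆ := rel_trans (y_mem (t := 2) (by norm_num)) y2 (adj 3 (by norm_num) (by norm_num))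
  have y4 : y 4 * y 0 ∈ ⁅E, E⁆ := rel_trans (y_mem (t := 2) (by norm_num)) y2 (adj 4 (by norm_num) (by norm_num))
  have y5 : y 5 * y 0 ∈ ⁅E, E⁆ := rel_trans (y_mem (t := 1) (by norm_num)) y1 (adj 5 (by norm_num) (by norm_num))
  rw [y_zero] at y1 y2 y3 y4 y5
  intro t ht
  interval_cases t
  · rw [y_zero, QuasiA.sq l_mem]; exact Subgroup.one_mem _
  · exact y1
  · exact y2
  · exact y3
  · exact y4
  · exact y5

/-! ### The element of the `y`-trick -/

/-- `l a c g` -/
def v : Spor.Fi24 := word [.l, .a, .c, .g]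

/-- swaps `e` and `g` -/
def k : Spor.Fi24 := word [.f, .e, .g, .f]

theorem D01 : D 0 1 = gen .a := by
  show word [Gen.a] = gen .a
  simp only [word_cons, word_nil, mul_one]

theorem D02 : D 0 2 = gen .c := by
  show word [Gen.c] = gen .c
  simp only [word_cons, word_nil, mul_one]

theorem v_eq : v = D 0 0 * D 0 1 * D 0 2 * gen .g := by
  rw [D00, D01, D02]
  unfold v
  simp only [word_cons, word_nil, mul_one, mul_assoc]

theorem chk_k : chkPt (nw [.f, .e, .g, .f] false) 0 0 = true ∧ chkPt (nw [.f, .e, .g, .f] false) 1 1 = true ∧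
    chkPt (nw [.f, .e, .g, .f] false) 2 2 = true ∧ chkPt (nw [.f, .e, .g, .f] false) 3 8 = true ∧
    chkPt (nw [.f, .e, .g, .f] false) 8 3 = true := by decide +kernel

theorem chk_v : chkPt (nw [.l, .a, .c, .g] false) 0 0 = true ∧
    chkPt (nw [.l, .a, .c, .g] false) (P 1 0) 305396 = true := by decide +kernel

theorem k_D0 : k * D 0 0 * k⁻¹ = D 0 0 :=
  (isPt (t := 0) (i := 0) (by norm_num) (by norm_num)).conj_eq (isPt (t := 0) (i := 0) (by norm_num) (by norm_num))
    (rho_of_chkPt chk_k.1)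
theorem k_D1 : k * D 0 1 * k⁻¹ = D 0 1 :=
  (isPt (t := 0) (i := 1) (by norm_num) (by norm_num)).conj_eq (isPt (t := 0) (i := 1) (by norm_num) (by norm_num))
    (rho_of_chkPt chk_k.2.1)
theorem k_D2 : k * D 0 2 * k⁻¹ = D 0 2 :=
  (isPt (t := 0) (i := 2) (by norm_num) (by norm_num)).conj_eq (isPt (t := 0) (i := 2) (by norm_num) (by norm_num))
    (rho_of_chkPt chk_k.2.2.1)
theorem k_D3 : k * D 0 3 * k⁻¹ = gen .g :=
  (isPt (t := 0) (i := 3) (by norm_num) (by norm_num)).conj_eq isPt_g (rho_of_chkPt chk_k.2.2.2.1)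
theorem k_g : k * gen .g * k⁻¹ = D 0 3 :=
  isPt_g.conj_eq (isPt (t := 0) (i := 3) (by norm_num) (by norm_num)) (rho_of_chkPt chk_k.2.2.2.2)

theorem kz : k * z * k⁻¹ = v := by
  rw [← prod_D 0 (by norm_num), v_eq]
  calc k * (D 0 0 * D 0 1 * D 0 2 * D 0 3) * k⁻¹ =
      (k * D 0 0 * k⁻¹) * (k * D 0 1 * k⁻¹) * (k * D 0 2 * k⁻¹) * (k * D 0 3 * k⁻¹) := by group
    _ = _ := by rw [k_D0, k_D1, k_D2, k_D3]

theorem kv : k * v * k⁻¹ = z := by
  rw [← prod_D 0 (by norm_num), v_eq]
  calc k * (D 0 0 * D 0 1 * D 0 2 * gen .g) * k⁻¹ =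
      (k * D 0 0 * k⁻¹) * (k * D 0 1 * k⁻¹) * (k * D 0 2 * k⁻¹) * (k * gen .g * k⁻¹) := by group
    _ = _ := by rw [k_D0, k_D1, k_D2, k_g]

theorem kz' : k⁻¹ * z * k = v := by
  rw [← kv]; group

theorem v_mem : v ∈ E := by
  rw [v_eq, show D 0 0 * D 0 1 * D 0 2 * gen .g = (D 0 0 * D 0 1) * (D 0 2 * gen .g) by group]
  exact E.mul_mem (mul_mem_E (D_mem_Dz (by norm_num) (by norm_num)) (D_mem_Dz (by norm_num) (by norm_num)))
    (mul_mem_E (D_mem_Dz (by norm_num) (by norm_num)) g_mem)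

theorem v_not_mem : v ∉ R := by
  intro hv
  have h1 := Cfsg.Agent.R08.TetThree.act_of_mem Tet.tr (R_le_Q hv) (isTet (t := 1) (by norm_num))
  have h2 : ∃ i < 4, v * D 1 0 * v⁻¹ = D 1 i := by
    rcases h1 with ⟨h, -⟩ | ⟨h, -⟩ | ⟨h, -⟩ | ⟨h, -⟩
    · exact ⟨0, by norm_num, h⟩
    · exact ⟨1, by norm_num, h⟩
    · exact ⟨2, by norm_num, h⟩
    · exact ⟨3, by norm_num, h⟩
  obtain ⟨i, hi, h3⟩ := h2
  have h4 : rho v (P 1 0) = P 1 i :=
    (isPt (t := 1) (i := 0) (by norm_num) (by norm_num)).rho_eq (isPt (t := 1) (by norm_num) hi) h3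
  have h5 : rho v (P 1 0) = 305396 := rho_of_chkPt chk_v.2
  rw [h5] at h4
  revert h4
  interval_cases i <;> decide

/-- **the `y`-trick** -/
theorem yt : ∃ k ∈ commutator Spor.Fi24, ∃ t : Spor.Fi24, t ∉ commutator Spor.Fi24 ∧ t * z = z * t ∧
    t * (k⁻¹ * z * k) = k⁻¹ * z * k * t ∧ k⁻¹ * z * k ∈ E ∧ k * z * k⁻¹ ∈ E ∧ k * z * k⁻¹ ∉ R := by
  refine ⟨k, ?_, gen .l, Cfsg.Agent.R08.FiTwentyFour.odd l_mem.1, l_mem.2, ?_, ?_, ?_, ?_⟩
  · have e : k = gen .f * gen .e * (gen .g * gen .f) := by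
      unfold k
      simp only [word_cons, word_nil, mul_one, mul_assoc]
    rw [e]
    exact mul_mem
      (Cfsg.Agent.R08.FiTwentyFour.even (Cfsg.Agent.R08.FiTwentyFour.gen_mem_L .f) (Cfsg.Agent.R08.FiTwentyFour.gen_mem_L .e))
      (Cfsg.Agent.R08.FiTwentyFour.even (Cfsg.Agent.R08.FiTwentyFour.gen_mem_L .g) (Cfsg.Agent.R08.FiTwentyFour.gen_mem_L .f))
  · rw [kz']
    have h1 : v * D 0 0 = D 0 0 * v :=
      ((isPt (t := 0) (i := 0) (by norm_num) (by norm_num)).comm_iff v).2 (rho_of_chkPt chk_v.1)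
    rw [D00] at h1
    exact h1.symm
  · rw [kz']; exact v_mem
  · rw [kz]; exact v_mem
  · rw [kz]; exact v_not_mem

end Cfsg.Agent.KFacts.FiTF.PerfE

end

-- merged: Cfsg.Agent.KFacts.FiTF.FixAut
section

/-!
# `Fi24'`: the automorphisms fixing all products of two transpositions commuting with `z`

`eq_one_or_conj`: such an automorphism is `1` or the conjugation by `z`.
-/

set_option autoImplicit false
set_option maxRecDepth 100000
set_option Elab.async false

namespace Cfsg.Agent.KFacts.FiTF.FixAut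

open Cfsg Cfsg.Agent.Lib.PermNetPt Cfsg.Agent.Fischer.Fi24RepDef Cfsg.Agent.Fischer.Fi24Rep
open Cfsg.Agent.Fischer.Fi24Final (sgn sgn_gen gen_sq gen_comm)
open Cfsg.Agent.Fischer.Fi24Spider (word_append word_cons word_nil)
open Cfsg.Agent.KFacts.FiTF.Pts
open Cfsg.Agent.R08.FiTwentyFour (L trans2 mem_commutator_iff mul_mem_commutator)
open Cfsg.Agent.R08.TetBasic
open Cfsg.Agent.KFacts.FiTF.Defs (z Dz)
open Cfsg.Agent.KFacts.FiTF.FixMask
open Cfsg.Spor (Fi24)
open Cfsg.Spor.Fi24 (Gen)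

/-! ### Commuting transpositions -/

section Tr

variable {F : Type*} [Group F] {L : Set F}

/-- An element centralising two pairs with a common member centralises the members. -/
theorem comm_pair (h : Tr L) {g s n n' : F} (hs : s ∈ L) (hn : n ∈ L) (hn' : n' ∈ L) (h1 : s ≠ n) (h2 : s ≠ n')
    (h3 : n ≠ n') (c1 : Commute s n) (c2 : Commute s n') (g1 : Commute g (s * n)) (g2 : Commute g (s * n')) :
    Commute g s ∧ Commute g n := by
  have key : ∀ m, m ∈ L → s ≠ m → Commute s m → Commute g (s * m) →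
      (g * s * g⁻¹ = s ∧ g * m * g⁻¹ = m) ∨ (g * s * g⁻¹ = m ∧ g * m * g⁻¹ = s) := by
    intro m hm hsm cm gm
    refine pair_unique h hs hm (h.conj g s hs) (h.conj g m hm) cm hsm ?_ ?_
    · show g * s * g⁻¹ * (g * m * g⁻¹) = g * m * g⁻¹ * (g * s * g⁻¹)
      calc g * s * g⁻¹ * (g * m * g⁻¹) = g * (s * m) * g⁻¹ := by group
        _ = g * (m * s) * g⁻¹ := by rw [cm.eq]
        _ = _ := by group
    · have : g * (s * m) = s * m * g := gm.eq
      calc s * m = s * m * g * g⁻¹ := by group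
        _ = g * (s * m) * g⁻¹ := by rw [this]
        _ = _ := by group
  have tr : ∀ m, g * m * g⁻¹ = m → Commute g m := by
    intro m hm
    show g * m = m * g
    calc g * m = g * m * g⁻¹ * g := by group
      _ = m * g := by rw [hm]
  rcases key n hn h1 c1 g1 with ⟨a1, a2⟩ | ⟨a1, -⟩
  · exact ⟨tr s a1, tr n a2⟩
  · exfalso
    rcases key n' hn' h2 c2 g2 with ⟨b1, -⟩ | ⟨b1, -⟩
    · exact h1 (b1.symm.trans a1)
    · exact h3 (a1.symm.trans b1)

theorem no3 (h : Tr L) {v q r s : F} (hv : v ∈ L) (hq : q ∈ L) (hr : r ∈ L) (hs : s ∈ L)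
    (nqr : q ≠ r) (nqs : q ≠ s) (nrs : r ≠ s) (cqr : Commute q r) (cqs : Commute q s) (crs : Commute r s)
    (cvq : Commute v q) (cvr : Commute v r) (cvs : Commute v s) : v ≠ q * r * s := by
  intro e
  have e1 : q * v = r * s := by rw [e, ← mul_assoc, ← mul_assoc, h.sq q hq, one_mul]
  have e2 : r * v = q * s := by
    rw [e, cqr.eq, ← mul_assoc, ← mul_assoc, h.sq r hr, one_mul]
  have n1 : q ≠ v := by
    rintro rfl
    rw [h.sq q hq] at e1
    have := congrArg (· * s) e1
    simp only [one_mul, mul_assoc, h.sq s hs, mul_one] at this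
    exact nrs this.symm
  have n2 : v ≠ r := by
    rintro rfl
    rw [h.sq v hv] at e2
    have := congrArg (· * s) e2
    simp only [one_mul, mul_assoc, h.sq s hs, mul_one] at this
    exact nqs this.symm
  have n3 : v ≠ s := by
    rintro rfl
    exact nqr (mul_right_cancel (e1.trans rfl))
  exact h.four q hq v hv r hr s hs n1 nqr nqs n2 n3 nrs cvq.symm cqr cqs cvr cvs crs e1

/-- A product of two commuting transpositions is not a product of four. -/
theorem no4 (h : Tr L) {u v p q r s : F} (hu : u ∈ L) (hv : v ∈ L) (hp : p ∈ L) (hq : q ∈ L) (hr : r ∈ L)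
    (hs : s ∈ L) (nuv : u ≠ v) (cuv : Commute u v)
    (npq : p ≠ q) (npr : p ≠ r) (nps : p ≠ s) (nqr : q ≠ r) (nqs : q ≠ s) (nrs : r ≠ s)
    (cpq : Commute p q) (cpr : Commute p r) (cps : Commute p s) (cqr : Commute q r) (cqs : Commute q s)
    (crs : Commute r s) : u * v ≠ p * q * r * s := by
  intro e
  have c0 : ∀ g ∈ L, Commute g p → Commute g q → Commute g r → Commute g s → Commute g u ∧ Commute g v := by
    intro g hg g1 g2 g3 g4
    refine comm_of_comm_mul h hu hv hg cuv nuv ?_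
    rw [e]
    exact ((g1.mul_right g2).mul_right g3).mul_right g4
  obtain ⟨pu, pv⟩ := c0 p hp (Commute.refl p) cpq cpr cps
  obtain ⟨qu, qv⟩ := c0 q hq cpq.symm (Commute.refl q) cqr cqs
  obtain ⟨ru, rv⟩ := c0 r hr cpr.symm cqr.symm (Commute.refl r) crs
  obtain ⟨su, sv⟩ := c0 s hs cps.symm cqs.symm crs.symm (Commute.refl s)
  have e2 : p * q * r * s = q * p * r * s := by rw [cpq.eq]
  have e3 : p * q * r * s = r * p * q * s := by
    rw [show p * q * r = r * (p * q) from ((cpr.symm.mul_right cqr.symm).eq).symm, ← mul_assoc]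
  have e4 : p * q * r * s = s * p * q * r := by
    have : p * q * r * s = s * (p * q * r) := (((cps.symm.mul_right cqs.symm).mul_right crs.symm).eq).symm
    rw [this]; group
  have key : ∀ u v, u ∈ L → v ∈ L → u * v = p * q * r * s → Commute p v → Commute q v → Commute r v →
      Commute s v → u ≠ p ∧ u ≠ q ∧ u ≠ r ∧ u ≠ s := by
    intro u v hu hv e pv qv rv sv
    refine ⟨?_, ?_, ?_, ?_⟩
    · rintro rfl
      rw [mul_assoc, mul_assoc] at e
      have e' := mul_left_cancel e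
      rw [← mul_assoc] at e'
      exact no3 h hv hq hr hs nqr nqs nrs cqr cqs crs qv.symm rv.symm sv.symm e'
    · rintro rfl
      rw [e2, mul_assoc, mul_assoc] at e
      have e' := mul_left_cancel e
      rw [← mul_assoc] at e'
      exact no3 h hv hp hr hs npr nps nrs cpr cps crs pv.symm rv.symm sv.symm e'
    · rintro rfl
      rw [e3, mul_assoc, mul_assoc] at e
      have e' := mul_left_cancel e
      rw [← mul_assoc] at e'
      exact no3 h hv hp hq hs npq nps nqs cpq cps cqs pv.symm qv.symm sv.symm e'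
    · rintro rfl
      rw [e4, mul_assoc, mul_assoc] at e
      have e' := mul_left_cancel e
      rw [← mul_assoc] at e'
      exact no3 h hv hp hq hr npq npr nqr cpq cpr cqr pv.symm qv.symm rv.symm e'
  obtain ⟨u1, u2, u3, u4⟩ := key u v hu hv e pv qv rv sv
  obtain ⟨v1, v2, v3, v4⟩ := key v u hv hu (by rw [← cuv.eq]; exact e) pu qu ru su
  refine h.six u hu v hv p hp q hq r hr s hs nuv u1 v1 nqr nqs nrs u2 u3 u4 v2 v3 v4 npq npr nps
    cuv pu.symm pv.symm cqr cqs crs qu.symm ru.symm su.symm qv.symm rv.symm sv.symm cpq cpr cps ?_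
  have e5 : p * q * r * s = q * r * s * p := by
    have : q * r * s * p = p * (q * r * s) := ((cpq.mul_right cpr).mul_right cps).eq.symm
    rw [this]; group
  rw [e, e5, mul_assoc, h.sq p hp, mul_one]

end Tr

/-! ### The graph of the automorphism -/

section Graph

variable (α : MulAut (commutator Fi24))

/-- `α` maps `g` to `g'`. -/
def Mp (g g' : Fi24) : Prop := ∃ h : g ∈ commutator Fi24, (α ⟨g, h⟩ : Fi24) = g'

variable {α}

theorem Mp.mul {a a' b b' : Fi24} (h1 : Mp α a a') (h2 : Mp α b b') : Mp α (a * b) (a' * b') := by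
  obtain ⟨m1, rfl⟩ := h1
  obtain ⟨m2, rfl⟩ := h2
  refine ⟨mul_mem m1 m2, ?_⟩
  rw [show (⟨a * b, mul_mem m1 m2⟩ : commutator Fi24) = ⟨a, m1⟩ * ⟨b, m2⟩ from rfl, map_mul]
  rfl

theorem Mp.inv {a a' : Fi24} (h1 : Mp α a a') : Mp α a⁻¹ a'⁻¹ := by
  obtain ⟨m1, rfl⟩ := h1
  refine ⟨inv_mem m1, ?_⟩
  rw [show (⟨a⁻¹, inv_mem m1⟩ : commutator Fi24) = ⟨a, m1⟩⁻¹ from rfl, map_inv]
  rfl

theorem Mp.one : Mp α 1 1 := by
  refine ⟨one_mem _, ?_⟩
  rw [show (⟨1, one_mem _⟩ : commutator Fi24) = 1 from rfl, map_one]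
  rfl

theorem Mp.ex {g : Fi24} (h : g ∈ commutator Fi24) : ∃ g', Mp α g g' := ⟨_, h, rfl⟩

theorem Mp.fn {g a b : Fi24} (h1 : Mp α g a) (h2 : Mp α g b) : a = b := by
  obtain ⟨m1, rfl⟩ := h1
  obtain ⟨m2, rfl⟩ := h2
  rfl

theorem Mp.inj {g k a : Fi24} (h1 : Mp α g a) (h2 : Mp α k a) : g = k := by
  obtain ⟨m1, h1⟩ := h1
  obtain ⟨m2, h2⟩ := h2
  exact congrArg Subtype.val (α.injective (Subtype.ext (h1.trans h2.symm)))

/-- `α` permutes the products of two commuting transpositions. -/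
theorem pairs {a b : Fi24} (ha : a ∈ L) (hb : b ∈ L) (hne : a ≠ b) (hab : Commute a b) (h : Mp α (a * b) (a * b))
    {a' b' : Fi24} (ha' : a' ∈ L) (hb' : b' ∈ L) (hne' : a' ≠ b') (hab' : Commute a' b') :
    ∃ x ∈ L, ∃ y ∈ L, x ≠ y ∧ Commute x y ∧ Mp α (a' * b') (x * y) := by
  obtain ⟨g, hg, rfl, rfl⟩ := trans2 ha hb ha' hb' hne hab hne' hab'
  obtain ⟨k, hk⟩ := Mp.ex (α := α) hg
  refine ⟨_, R08.FiTwentyFour.conj ha k, _, R08.FiTwentyFour.conj hb k, ?_, ?_, ?_⟩
  · intro e
    apply hne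
    have := congrArg (fun x => k⁻¹ * x * k) e
    simpa [mul_assoc] using this
  · show k * a * k⁻¹ * (k * b * k⁻¹) = k * b * k⁻¹ * (k * a * k⁻¹)
    calc k * a * k⁻¹ * (k * b * k⁻¹) = k * (a * b) * k⁻¹ := by group
      _ = k * (b * a) * k⁻¹ := by rw [hab.eq]
      _ = _ := by group
  · have h1 := (hk.mul h).mul hk.inv
    rw [show g * a * g⁻¹ * (g * b * g⁻¹) = g * (a * b) * g⁻¹ by group,
      show k * a * k⁻¹ * (k * b * k⁻¹) = k * (a * b) * k⁻¹ by group]
    exact h1

end Graph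

/-! ### Kernel checks -/

def w5 : List Gen := [.d, .h, .e, .d]
def w6 : List Gen := [.b, .c, .d, .h, .e, .d, .c, .b]
def wt : List Gen := [.b, .d, .h, .c, .d, .i, .h, .e, .d, .c, .b, .a]

/-- The words of three transpositions of `Dz`. -/
def t5 : List Gen := w5 ++ Gen.c :: w5.reverse
def t6 : List Gen := w6 ++ Gen.a :: w6.reverse
def tt : List Gen := wt ++ Gen.k :: wt.reverse

noncomputable def nz : List Lib.PermNet.Net := nw [.l, .a, .c, .e] false

theorem chk_z : and (chkPt nz 0 0) (and (chkPt nz 1 1) (and (chkPt nz 2 2) (and (chkPt nz 3 3) (and (chkPt nz 4 4)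
    (and (chkPt nz 8 8) (and (chkPt nz 136 136) (and (chkPt nz 176 176) (and (chkPt nz 5 5) (and (chkPt nz 6 6)
    (and (chkPt nz 305392 305392) (chkPt nz 169 169))))))))))) = true := by
  decide +kernel

theorem pos_5 : chkPt (nw w5 false) (pn .c) 5 = true := by decide +kernel
theorem pos_6 : chkPt (nw w6 false) (pn .a) 6 = true := by decide +kernel
theorem pos_t : chkPt (nw wt false) (pn .k) 305392 = true := by decide +kernel
theorem pos_w : chkPt (nw uw false) (pn .c) 169 = true := by decide +kernel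
theorem w_l : chkPt (nw (uw ++ Gen.c :: uw.reverse) false) 0 0 = true := by decide +kernel
theorem w_f : chkPt (nw (uw ++ Gen.c :: uw.reverse) false) 676 676 = true := by decide +kernel
theorem e_f : chkPt (nw [.e] false) 676 672 = true := by decide +kernel
theorem e_f' : chkPt (nw [.e] false) 672 676 = true := by decide +kernel
theorem f_f' : chkPt (nw [.f] false) 672 3 = true := by decide +kernel

/-- Words conjugating letters of `Dz` to `b, d, k`. -/
def pb : List (List Gen) := [tt, t6, [.f], tt, t6, t5, [.f], [.c], tt]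
def pd : List (List Gen) := [t5, [.f], tt, [.i], t5, [.e], [.f], tt]
def pk : List (List Gen) := [tt, t6, [.e], [.f], tt, t5, [.f], [.l], tt]

theorem conj_b : chkPt (nw pb.flatten false) (pn .a) (pn .b) = true := by decide +kernel
theorem conj_d : chkPt (nw pd.flatten false) (pn .c) (pn .d) = true := by decide +kernel
theorem conj_k : chkPt (nw pk.flatten false) (pn .a) (pn .k) = true := by decide +kernel

/-! ### The members of `Dz` -/

theorem gen_L (x : Gen) : gen x ∈ L := R08.FiTwentyFour.gen_mem_L x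

theorem mem_Dz {d : Fi24} {p : ℕ} (h : IsPt d p) (hz : chkPt nz p p = true) : d ∈ Dz :=
  ⟨h.mem, ((com h z).2 (rho_z hz)).symm.eq⟩

theorem Dz_gen : gen .l ∈ Dz ∧ gen .a ∈ Dz ∧ gen .c ∈ Dz ∧ gen .e ∈ Dz ∧ gen .h ∈ Dz ∧ gen .g ∈ Dz ∧
    gen .j ∈ Dz ∧ gen .i ∈ Dz ∧ word t5 ∈ Dz ∧ word t6 ∈ Dz ∧ word tt ∈ Dz ∧ Defs.tr uw .c ∈ Dz := by
  have h := chk_z
  simp only [Bool.and_eq_true] at h
  obtain ⟨h0, h1, h2, h3, h4, h5, h6, h7, h8, h9, h10, h11⟩ := h
  exact ⟨mem_Dz (isPt_gen .l) h0, mem_Dz (isPt_gen .a) h1, mem_Dz (isPt_gen .c) h2, mem_Dz (isPt_gen .e) h3,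
    mem_Dz (isPt_gen .h) h4, mem_Dz (isPt_gen .g) h5, mem_Dz (isPt_gen .j) h6, mem_Dz (isPt_gen .i) h7,
    mem_Dz (isPt_tr pos_5) h8, mem_Dz (isPt_tr pos_6) h9, mem_Dz (isPt_tr pos_t) h10, mem_Dz (isPt_tr pos_w) h11⟩

theorem comm {x y : Gen} (h : Cfsg.Spor.coxLabel Cfsg.Spor.Fi24.edges x y = 2) : Commute (gen x) (gen y) :=
  gen_comm h

theorem ne_gen {x y : Gen} (h : pn x ≠ pn y) : gen x ≠ gen y := by
  intro e
  have h1 := isPt_gen x
  rw [e] at h1
  exact h (h1.uniq (isPt_gen y))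

theorem f'_ne {x : Gen} (h : pn x ≠ 672) : gen x ≠ f' := by
  intro e
  have h1 := isPt_gen x
  rw [e] at h1
  exact h (h1.uniq isPt_f')

theorem f_not_Dz : gen .f ∉ Dz := by
  intro h
  have h1 := (com (isPt_gen .f) z).1 (show z * gen .f = gen .f * z from h.2.symm)
  rw [show pn .f = 676 from rfl, rho_z chk_f] at h1
  exact absurd h1 (by norm_num)

theorem rho_gen_of {x : Gen} {p q : ℕ} (h : chkPt (nw [x] false) p q = true) : rho (gen x) p = q := by
  have := rho_of_chkPt h
  rwa [word_cons, word_nil, mul_one] at this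

theorem nc_ef : ¬ Commute (gen .e) (gen .f) := by
  intro h
  have h1 := (com (isPt_gen .f) _).1 h
  rw [show pn .f = 676 from rfl, rho_gen_of e_f] at h1
  exact absurd h1 (by norm_num)

theorem nc_ef' : ¬ Commute (gen .e) f' := by
  intro h
  have h1 := (com isPt_f' _).1 h
  rw [rho_gen_of e_f'] at h1
  exact absurd h1 (by norm_num)

theorem nc_ff' : ¬ Commute (gen .f) f' := by
  intro h
  have h1 := (com isPt_f' _).1 h
  rw [rho_gen_of f_f'] at h1
  exact absurd h1 (by norm_num)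

theorem comm_z {x : Gen} (h : Commute (gen x) (gen .f)) (h' : gen x ∈ Dz) : Commute (gen x) f' := by
  have hz : Commute (gen x) z := h'.2
  exact (hz.mul_right h).mul_right hz.inv_right

theorem z_inv : z⁻¹ = z := by
  apply inv_eq_of_mul_eq_one_left
  have c1 : gen .l * gen .a = gen .a * gen .l := gen_comm (by decide)
  have c2 : gen .l * gen .c = gen .c * gen .l := gen_comm (by decide)
  have c3 : gen .l * gen .e = gen .e * gen .l := gen_comm (by decide)
  have c4 : gen .a * gen .c = gen .c * gen .a := gen_comm (by decide)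
  have c5 : gen .a * gen .e = gen .e * gen .a := gen_comm (by decide)
  have c6 : gen .c * gen .e = gen .e * gen .c := gen_comm (by decide)
  unfold z
  calc gen .l * gen .a * gen .c * gen .e * (gen .l * gen .a * gen .c * gen .e)
      = gen .l * gen .a * gen .c * (gen .e * gen .l) * gen .a * gen .c * gen .e := by group
    _ = gen .l * gen .a * (gen .c * gen .l) * gen .e * gen .a * gen .c * gen .e := by rw [← c3]; group
    _ = gen .l * (gen .a * gen .l) * gen .c * (gen .e * gen .a) * gen .c * gen .e := by rw [← c2]; group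
    _ = (gen .l * gen .l) * gen .a * (gen .c * gen .a) * gen .e * gen .c * gen .e := by rw [← c1, ← c5]; group
    _ = gen .a * gen .a * gen .c * (gen .e * gen .c) * gen .e := by rw [gen_sq, ← c4]; group
    _ = gen .c * gen .c * (gen .e * gen .e) := by rw [gen_sq, ← c6]; group
    _ = 1 := by rw [gen_sq, gen_sq, one_mul]

/-! ### The two possibilities -/

section Core

variable {α : MulAut (commutator Fi24)}

theorem fx (hα : ∀ e ∈ Dz, ∀ f ∈ Dz, ∀ x : commutator Fi24, (x : Fi24) = e * f → α x = x) {e f : Fi24}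
    (he : e ∈ Dz) (hf : f ∈ Dz) : Mp α (e * f) (e * f) :=
  ⟨mul_mem_commutator he.1 hf.1, congrArg Subtype.val (hα e he f hf ⟨e * f, mul_mem_commutator he.1 hf.1⟩ rfl)⟩

/-- `α (l f) = m f₁` is impossible for `m = a, c`. -/
theorem excl (hα : ∀ e ∈ Dz, ∀ f ∈ Dz, ∀ x : commutator Fi24, (x : Fi24) = e * f → α x = x) {m n : Gen} {g : Fi24}
    (hg : g = f' ∨ g = gen .f) (hm : gen m ∈ Dz) (hn : gen n ∈ Dz) (c1 : Commute (gen m) (gen n))
    (c2 : Commute (gen n) (gen .l)) (c3 : Commute (gen .l) (gen m)) (c4 : Commute (gen m) (gen .f))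
    (c5 : Commute (gen n) (gen .f)) (n1 : pn m ≠ pn n) (n2 : pn n ≠ pn .l) (n3 : pn .l ≠ pn m)
    (n4 : pn m ≠ pn .f) (n5 : pn n ≠ pn .f) (n6 : pn m ≠ 672) (n7 : pn n ≠ 672)
    (h : Mp α (gen .l * gen .f) (gen m * g)) : False := by
  obtain ⟨hl, ha, -⟩ := Dz_gen
  obtain ⟨u, hu, v, hv, huv, cuv, hm2⟩ := pairs (gen_L .l) (gen_L .a) (ne_gen (by decide)) (comm (by decide))
    (fx hα hl ha) (gen_L n) (gen_L .f) (ne_gen n5) c5
  have h1 : Mp α (gen n * gen .l * (gen .l * gen .f)) (gen n * gen .l * (gen m * g)) := (fx hα hn hl).mul h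
  rw [show gen n * gen .l * (gen .l * gen .f) = gen n * (gen .l * gen .l) * gen .f by group, gen_sq, mul_one] at h1
  have h2 := hm2.fn h1
  have gL : g ∈ L := by
    rcases hg with rfl | rfl
    · exact isPt_f'.mem
    · exact gen_L .f
  have cg : ∀ x : Gen, gen x ∈ Dz → Commute (gen x) (gen .f) → Commute (gen x) g := by
    intro x hx hc
    rcases hg with rfl | rfl
    · exact comm_z hc hx
    · exact hc
  have ng : ∀ x : Gen, pn x ≠ pn .f → pn x ≠ 672 → gen x ≠ g := by
    intro x k1 k2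
    rcases hg with rfl | rfl
    · exact f'_ne k2
    · exact ne_gen k1
  refine no4 R08.TetFi24A.tr hu hv (gen_L n) (gen_L .l) (gen_L m) gL huv cuv (ne_gen n2) (ne_gen n1).symm
    (ng n n5 n7) (ne_gen n3) (ng .l (by decide) (by decide)) (ng m n4 n6) c2 c1.symm (cg n hn c5) c3
    (cg .l hl (comm (by decide))) (cg m hm c4) ?_
  rw [h2]
  group

theorem half (hα : ∀ e ∈ Dz, ∀ f ∈ Dz, ∀ x : commutator Fi24, (x : Fi24) = e * f → α x = x) {x y : Fi24}
    (hxy : Commute x y) (h : Mp α (gen .l * gen .f) (x * y))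
    (hx : x = gen .l ∨ x = gen .a ∨ x = gen .c ∨ x = gen .e) (hy : y = f' ∨ y = gen .f) :
    Mp α (gen .l * gen .f) (gen .l * gen .f) ∨ Mp α (gen .l * gen .f) (gen .l * f') := by
  obtain ⟨hl, ha, hc, -⟩ := Dz_gen
  rcases hx with rfl | rfl | rfl | rfl
  · rcases hy with rfl | rfl
    · exact Or.inr h
    · exact Or.inl h
  · exact (excl hα (m := .a) (n := .c) hy ha hc (comm (by decide)) (comm (by decide)) (comm (by decide))
      (comm (by decide)) (comm (by decide)) (by decide) (by decide) (by decide) (by decide) (by decide) (by decide)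
      (by decide) h).elim
  · exact (excl hα (m := .c) (n := .a) hy hc ha (comm (by decide)) (comm (by decide)) (comm (by decide))
      (comm (by decide)) (comm (by decide)) (by decide) (by decide) (by decide) (by decide) (by decide) (by decide)
      (by decide) h).elim
  · rcases hy with rfl | rfl
    · exact (nc_ef' hxy).elim
    · exact (nc_ef hxy).elim

theorem dich (hα : ∀ e ∈ Dz, ∀ f ∈ Dz, ∀ x : commutator Fi24, (x : Fi24) = e * f → α x = x) :
    Mp α (gen .l * gen .f) (gen .l * gen .f) ∨ Mp α (gen .l * gen .f) (gen .l * f') := by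
  obtain ⟨hl, ha, hc, he, hh, hg, hj, hi, h5, h6, ht, hw⟩ := Dz_gen
  obtain ⟨x, hx, y, hy, hne, hxy, hm⟩ := pairs (gen_L .l) (gen_L .a) (ne_gen (by decide)) (comm (by decide))
    (fx hα hl ha) (gen_L .l) (gen_L .f) (ne_gen (by decide)) (comm (by decide))
  have lf : Commute (gen .l) (gen .f) := comm (by decide)
  have C : ∀ n ∈ Dz, Commute (gen .l) n → Commute n (gen .f) → Commute (x * y) (gen .l * n) := by
    intro n hn c1 c2
    have c3 : Commute (gen .l * gen .f) (gen .l * n) :=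
      ((Commute.refl (gen .l)).mul_right c1).mul_left (lf.symm.mul_right c2.symm)
    have m1 := hm.mul (fx hα hl hn)
    have m2 := (fx hα hl hn).mul hm
    rw [c3.eq] at m1
    exact m1.fn m2
  have gl : Commute (x * y) (gen .l) :=
    (comm_pair R08.TetFi24A.tr (gen_L .l) (gen_L .a) (gen_L .c) (ne_gen (by decide)) (ne_gen (by decide))
      (ne_gen (by decide)) (comm (by decide)) (comm (by decide)) (C _ ha (comm (by decide)) (comm (by decide)))
      (C _ hc (comm (by decide)) (comm (by decide)))).1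
  have D : ∀ n ∈ Dz, Commute (gen .l) n → Commute n (gen .f) → Commute n x ∧ Commute n y := by
    intro n hn c1 c2
    have h1 : Commute (x * y) (gen .l * (gen .l * n)) := gl.mul_right (C n hn c1 c2)
    rw [← mul_assoc, gen_sq, one_mul] at h1
    exact comm_of_comm_mul R08.TetFi24A.tr hx hy hn.1 hxy hne h1.symm
  have Dl : Commute (gen .l) x ∧ Commute (gen .l) y :=
    comm_of_comm_mul R08.TetFi24A.tr hx hy (gen_L .l) hxy hne gl.symm
  have Da := D _ ha (comm (by decide)) (comm (by decide))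
  have Dc := D _ hc (comm (by decide)) (comm (by decide))
  have Dh := D _ hh (comm (by decide)) (comm (by decide))
  have Di := D _ hi (comm (by decide)) (comm (by decide))
  have Dj := D _ hj (comm (by decide)) (comm (by decide))
  have wl : Commute (Defs.tr uw .c) (gen .l) := (com (isPt_gen .l) _).2 (rho_of_chkPt w_l)
  have wf : Commute (Defs.tr uw .c) (gen .f) := (com (isPt_gen .f) _).2 (rho_of_chkPt w_f)
  have Dw := D _ hw wl.symm wf
  have kx := cand hx Dl.1 Da.1 Dc.1 Dh.1 Di.1 Dj.1 Dw.1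
  have ky := cand hy Dl.2 Da.2 Dc.2 Dh.2 Di.2 Dj.2 Dw.2
  have s : ∀ d : Fi24, (d = gen .l ∨ d = gen .a ∨ d = gen .c ∨ d = gen .e ∨ d = f' ∨ d = gen .f) →
      (d = gen .l ∨ d = gen .a ∨ d = gen .c ∨ d = gen .e) ∨ (d = f' ∨ d = gen .f) := by
    rintro d (h | h | h | h | h | h)
    · exact Or.inl (Or.inl h)
    · exact Or.inl (Or.inr (Or.inl h))
    · exact Or.inl (Or.inr (Or.inr (Or.inl h)))
    · exact Or.inl (Or.inr (Or.inr (Or.inr h)))
    · exact Or.inr (Or.inl h)
    · exact Or.inr (Or.inr h)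
  have inD : ∀ d : Fi24, (d = gen .l ∨ d = gen .a ∨ d = gen .c ∨ d = gen .e) → d ∈ Dz := by
    rintro d (rfl | rfl | rfl | rfl)
    · exact hl
    · exact ha
    · exact hc
    · exact he
  rcases s x kx with kx | kx <;> rcases s y ky with ky | ky
  · exfalso
    have h1 : x * y = gen .l * gen .f := (fx hα (inD x kx) (inD y ky)).inj hm
    rcases pair_unique R08.TetFi24A.tr hx hy (gen_L .l) (gen_L .f) hxy hne lf h1 with ⟨-, h2⟩ | ⟨-, h2⟩
    · exact f_not_Dz (h2 ▸ inD y ky)
    · exact f_not_Dz (h2 ▸ inD x kx)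
  · exact half hα hxy hm kx ky
  · exact half hα hxy.symm (by rw [hxy.symm.eq]; exact hm) ky kx
  · exfalso
    rcases kx with rfl | rfl <;> rcases ky with rfl | rfl
    · exact hne rfl
    · exact nc_ff' hxy.symm
    · exact nc_ff' hxy
    · exact hne rfl

/-! ### The fixed transpositions -/

/-- `l d` is fixed. -/
def Q (α : MulAut (commutator Fi24)) (d : Fi24) : Prop := d ∈ L ∧ Mp α (gen .l * d) (gen .l * d)

theorem L_inv {d : Fi24} (h : d ∈ L) : d⁻¹ = d := R08.TetFi24A.tr.inv h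

theorem Q.cj {d d' : Fi24} (h : Q α d) (h' : Q α d') : Q α (d * d' * d⁻¹) := by
  refine ⟨R08.FiTwentyFour.conj h'.1 d, ?_⟩
  have h1 := (h.2.mul h'.2.inv).mul h.2
  have e : gen .l * d * (gen .l * d')⁻¹ * (gen .l * d) = gen .l * (d * d' * d⁻¹) := by
    rw [mul_inv_rev, L_inv h.1, L_inv h'.1]
    group
  rw [e] at h1
  exact h1

theorem Q.list {ds : List Fi24} (h : ∀ d ∈ ds, Q α d) {x : Fi24} (hx : Q α x) : Q α (ds.prod * x * ds.prod⁻¹) := by
  induction ds with
  | nil => simpa using hx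
  | cons d ds ih =>
    have h1 := (h d List.mem_cons_self).cj (ih (fun e he => h e (List.mem_cons_of_mem _ he)))
    rw [List.prod_cons]
    rw [show d * ds.prod * x * (d * ds.prod)⁻¹ = d * (ds.prod * x * ds.prod⁻¹) * d⁻¹ by group]
    exact h1

theorem word_flatten (ps : List (List Gen)) : word ps.flatten = (ps.map word).prod := by
  induction ps with
  | nil => rfl
  | cons p ps ih => rw [List.flatten_cons, word_append, ih, List.map_cons, List.prod_cons]

theorem Q.piece {ps : List (List Gen)} (h : ∀ p ∈ ps, Q α (word p)) {x y : Gen} (hx : Q α (gen x))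
    (hc : chkPt (nw ps.flatten false) (pn x) (pn y) = true) : Q α (gen y) := by
  have h1 : Q α (word ps.flatten * gen x * (word ps.flatten)⁻¹) := by
    rw [word_flatten]
    refine Q.list ?_ hx
    intro d hd
    obtain ⟨p, hp, rfl⟩ := List.mem_map.1 hd
    exact h p hp
  have h2 := (isPt_gen x).conj (word ps.flatten)
  rw [rho_of_chkPt hc] at h2
  rwa [h2.inj (isPt_gen y)] at h1

theorem sgn_word (l : List Gen) : sgn (word l) = (-1) ^ l.length := by
  induction l with
  | nil => rw [word_nil, map_one]; rfl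
  | cons x l ih => rw [word_cons, map_mul, sgn_gen, ih, List.length_cons, pow_succ']

theorem word_one (x : Gen) : word [x] = gen x := by rw [word_cons, word_nil, mul_one]

theorem exists_word (g : Fi24) : ∃ w, word w = g := by
  have hg : g ∈ Subgroup.closure (Set.range gen) := by
    rw [show Subgroup.closure (Set.range gen) = ⊤ from PresentedGroup.closure_range_of _]
    trivial
  induction hg using Subgroup.closure_induction with
  | mem y hy => obtain ⟨x, rfl⟩ := hy; exact ⟨[x], word_one x⟩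
  | one => exact ⟨[], rfl⟩
  | mul y y' _ _ hy hy' =>
    obtain ⟨w, rfl⟩ := hy
    obtain ⟨w', rfl⟩ := hy'
    exact ⟨w ++ w', word_append w w'⟩
  | inv y _ hy =>
    obtain ⟨w, rfl⟩ := hy
    exact ⟨w.reverse, word_reverse w⟩

theorem fix_one (hα : ∀ e ∈ Dz, ∀ f ∈ Dz, ∀ x : commutator Fi24, (x : Fi24) = e * f → α x = x)
    (hf : Mp α (gen .l * gen .f) (gen .l * gen .f)) : α = 1 := by
  obtain ⟨hl, ha, hc, he, hh, hg, hj, hi, h5, h6, ht, hw⟩ := Dz_gen
  have qD : ∀ d ∈ Dz, Q α d := fun d hd => ⟨hd.1, fx hα hl hd⟩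
  have qf : Q α (gen .f) := ⟨gen_L .f, hf⟩
  have q5 := qD _ h5
  have q6 := qD _ h6
  have qt := qD _ ht
  have ql := qD _ hl
  have qa := qD _ ha
  have qc := qD _ hc
  have qe := qD _ he
  have qi := qD _ hi
  have qb : Q α (gen .b) := by
    refine Q.piece (ps := pb) ?_ qa conj_b
    intro p hp
    simp only [pb, List.mem_cons, List.not_mem_nil, or_false] at hp
    rcases hp with rfl | rfl | rfl | rfl | rfl | rfl | rfl | rfl | rfl <;>
      first | exact qt | exact q6 | exact q5 | (rw [word_one]; first | exact qf | exact qc)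
  have qd : Q α (gen .d) := by
    refine Q.piece (ps := pd) ?_ qc conj_d
    intro p hp
    simp only [pd, List.mem_cons, List.not_mem_nil, or_false] at hp
    rcases hp with rfl | rfl | rfl | rfl | rfl | rfl | rfl | rfl <;>
      first | exact qt | exact q6 | exact q5 | (rw [word_one]; first | exact qf | exact qi | exact qe)
  have qk : Q α (gen .k) := by
    refine Q.piece (ps := pk) ?_ qa conj_k
    intro p hp
    simp only [pk, List.mem_cons, List.not_mem_nil, or_false] at hp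
    rcases hp with rfl | rfl | rfl | rfl | rfl | rfl | rfl | rfl | rfl <;>
      first | exact qt | exact q6 | exact q5 | (rw [word_one]; first | exact qf | exact ql | exact qe)
  have qg : ∀ x, Q α (gen x) := by
    intro x
    cases x
    · exact ql
    · exact qk
    · exact qa
    · exact qb
    · exact qc
    · exact qd
    · exact qe
    · exact qf
    · exact qD _ hg
    · exact qD _ hj
    · exact qD _ hh
    · exact qi
  have key : ∀ w : List Gen, (w.length % 2 = 0 → Mp α (word w) (word w)) ∧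
      (w.length % 2 = 1 → Mp α (gen .l * word w) (gen .l * word w)) := by
    intro w
    induction w with
    | nil => exact ⟨fun _ => Mp.one, fun h => absurd h (by simp)⟩
    | cons x w ih =>
      rw [word_cons, List.length_cons]
      constructor
      · intro h
        have h1 := (qg x).2.inv.mul (ih.2 (by omega))
        have e : (gen .l * gen x)⁻¹ * (gen .l * word w) = gen x * word w := by
          rw [mul_inv_rev, L_inv (gen_L x)]
          group
        rw [e] at h1
        exact h1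
      · intro h
        have h1 := (qg x).2.mul (ih.1 (by omega))
        rw [mul_assoc] at h1
        exact h1
  ext x
  obtain ⟨w, hw⟩ := exists_word (x : Fi24)
  have hs : sgn (word w) = 1 := by
    rw [hw]
    exact mem_commutator_iff.1 x.2
  rw [sgn_word] at hs
  have hlen : w.length % 2 = 0 := by
    by_contra h
    rw [Odd.neg_one_pow (Nat.odd_iff.2 (by omega))] at hs
    exact absurd hs (by decide)
  obtain ⟨h1, h2⟩ := (key w).1 hlen
  have h3 : (⟨word w, h1⟩ : commutator Fi24) = x := Subtype.ext hw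
  rw [h3, hw] at h2
  exact h2

end Core

/-- **The automorphisms fixing the even products of two members of `Dz`** are `1` and the conjugation by `z`. -/
theorem eq_one_or_conj (α : MulAut (commutator Fi24))
    (hα : ∀ e ∈ Dz, ∀ f ∈ Dz, ∀ x : commutator Fi24, (x : Fi24) = e * f → α x = x) :
    α = 1 ∨ ∀ x, (α x : Fi24) = z * x * z := by
  rcases dich hα with h | h
  · exact Or.inl (fix_one hα h)
  · right
    have hz : z ∈ commutator Fi24 := by
      have h1 := mul_mem (mul_mem_commutator (gen_L .l) (gen_L .a))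
        (mul_mem_commutator (gen_L .c) (gen_L .e))
      have h2 : z = gen .l * gen .a * (gen .c * gen .e) := by unfold z; group
      rw [h2]
      exact h1
    have hzz : z * z = 1 := by
      conv_lhs =>
        lhs
        rw [← z_inv]
      exact inv_mul_cancel z
    have hval : ∀ x, ((MulAut.conj (⟨z, hz⟩ : commutator Fi24) * α) x : Fi24) = z * α x * z := by
      intro x
      show z * (α x : Fi24) * z⁻¹ = _
      rw [z_inv]
    have h1 : MulAut.conj (⟨z, hz⟩ : commutator Fi24) * α = 1 := by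
      apply fix_one
      · intro e he f hf x hx
        apply Subtype.ext
        rw [hval, hα e he f hf x hx, hx]
        calc z * (e * f) * z = (z * e) * (f * z) := by group
          _ = e * z * (z * f) := by rw [he.2, hf.2]
          _ = e * (z * z) * f := by group
          _ = e * f := by rw [hzz, mul_one]
      · obtain ⟨m, hm⟩ := h
        refine ⟨m, ?_⟩
        rw [hval, hm]
        have hl : gen .l * z = z * gen .l := Dz_gen.1.2
        have e1 : f' = z * gen .f * z := by unfold f'; rw [z_inv]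
        rw [e1]
        calc z * (gen .l * (z * gen .f * z)) * z = (z * gen .l) * z * gen .f * (z * z) := by group
          _ = gen .l * (z * z) * gen .f * (z * z) := by rw [← hl]; group
          _ = gen .l * gen .f := by rw [hzz, mul_one, mul_one]
    intro x
    have h2 := hval x
    rw [h1] at h2
    have h3 : (x : Fi24) = z * α x * z := h2
    calc (α x : Fi24) = (z * z) * α x * (z * z) := by rw [hzz, one_mul, mul_one]
      _ = z * (z * α x * z) * z := by group
      _ = z * x * z := by rw [← h3]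

end Cfsg.Agent.KFacts.FiTF.FixAut

end

-- merged: Cfsg.Agent.KFacts.FiTF.FrameF
section

/-!
# `Fi24'`: the frame, unconditionally

`frame`; `out`: `|Out (Fi24')|` divides 2; `exists_conj`: every automorphism of `Fi24'` is induced by `Fi24`.
-/

set_option autoImplicit false

namespace Cfsg.Agent.KFacts.FiTF

open Cfsg Cfsg.Spor Subgroup
open Cfsg.Agent.KFacts.FiTF.Defs

/-- **the frame of `Fi24'`** -/
theorem frame : Frame (commutator Spor.Fi24) z R E RQ.Om :=
  FrameOf.frame_of FixZ.tran (Cent.cent FixZ.tran) Order.odd Order.card (PerfE.perf FixZ.tran)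
    FixAut.eq_one_or_conj PerfE.yt

/-- **`|Out (Fi24')|` divides 2** -/
theorem out : (MulAut.conj : Spor.Fi24' →* MulAut Spor.Fi24').range.index ∣ 2 := by
  have : Finite Spor.Fi24 := Cfsg.Agent.R08.FiTwentyFour.finite_Fi24
  exact frame.out

/-- every automorphism of `Fi24'` is induced by an element of `Fi24` -/
theorem exists_conj (α : MulAut Spor.Fi24') : ∃ g : Spor.Fi24, ∀ x : Spor.Fi24', (α x : Spor.Fi24) = g * x * g⁻¹ := by
  have : Finite Spor.Fi24 := Cfsg.Agent.R08.FiTwentyFour.finite_Fi24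
  exact frame.exists_conj α

end Cfsg.Agent.KFacts.FiTF

end
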