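import Mathlib
import Cfsg.Agent.KFacts.Codes

-- merged: Cfsg.Agent.KFacts.FiTF.Chain
section

/-!
# Linear groups preserving a mask: bound by a chain of base points

A finite group `Γ` acts linearly on codes `< 2 ^ n` and preserves the mask `OM`. The subgroup acting trivially on the
base points `v 0, …, v (m-1)` has index at most `∏ num OM v n k`, where `num OM v n k` is the number of codes `w` such
that `OM (u + w) = OM (u + v k)` for all `u` in the span of `v 0, …, v (k-1)`.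
-/

set_option autoImplicit false

namespace Cfsg.Agent.KFacts.FiTF.Chain

open Subgroup

/-- `f` on all elements of the span of `v 0, …, v (k-1)` translated by `a` -/
def spanAll (v : ℕ → ℕ) (f : ℕ → Bool) : ℕ → ℕ → Bool
  | 0, a => f a
  | k + 1, a => spanAll v f k a && spanAll v f k (a ^^^ v k)

/-- number of `w` in `[a, a + 2 ^ k)` with `f w` -/
def cnt (f : ℕ → Bool) : ℕ → ℕ → ℕ
  | 0, a => cond (f a) 1 0
  | k + 1, a => cnt f k a + cnt f k (a + 2 ^ k)

/-- the test -/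
def chk (OM : ℕ) (v : ℕ → ℕ) (k w : ℕ) : Bool :=
  spanAll v (fun u => OM.testBit (u ^^^ w) == OM.testBit (u ^^^ v k)) k 0

/-- the number of possible images of `v k` -/
def num (OM : ℕ) (v : ℕ → ℕ) (n k : ℕ) : ℕ := cnt (chk OM v k) n 0

theorem spanAll_of {v : ℕ → ℕ} {f : ℕ → Bool} {S : ℕ → Prop} :
    ∀ (k : ℕ) (_ : ∀ i < k, ∀ a, S a → S (a ^^^ v i)) (_ : ∀ a, S a → f a = true) (a : ℕ), S a →
      spanAll v f k a = true := by
  intro k
  induction k with
  | zero => intro _ hf a ha; exact hf a ha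
  | succ k ih =>
    intro hv hf a ha
    have h1 := ih (fun i hi => hv i (by omega)) hf a ha
    have h2 := ih (fun i hi => hv i (by omega)) hf (a ^^^ v k) (hv k (by omega) a ha)
    simp only [spanAll, h1, h2, Bool.and_self]

theorem cnt_eq (f : ℕ → Bool) : ∀ k a : ℕ,
    cnt f k a = ((Finset.Ico a (a + 2 ^ k)).filter (fun w => f w = true)).card := by
  intro k
  induction k with
  | zero =>
    intro a
    rw [pow_zero, Nat.Ico_succ_singleton, Finset.filter_singleton]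
    cases h : f a <;> simp [cnt, h]
  | succ k ih =>
    intro a
    have h1 : Finset.Ico a (a + 2 ^ (k + 1)) =
        Finset.Ico a (a + 2 ^ k) ∪ Finset.Ico (a + 2 ^ k) (a + 2 ^ k + 2 ^ k) := by
      rw [Finset.Ico_union_Ico_eq_Ico (Nat.le_add_right _ _) (Nat.le_add_right _ _)]
      congr 1
      rw [pow_succ]; ring
    have h2 : Disjoint ((Finset.Ico a (a + 2 ^ k)).filter (fun w => f w = true))
        ((Finset.Ico (a + 2 ^ k) (a + 2 ^ k + 2 ^ k)).filter (fun w => f w = true)) := by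
      apply Finset.disjoint_filter_filter
      rw [Finset.disjoint_left]
      intro x hx hx'
      rw [Finset.mem_Ico] at hx hx'
      omega
    show cnt f k a + cnt f k (a + 2 ^ k) = _
    rw [h1, Finset.filter_union, Finset.card_union_of_disjoint h2, ← ih, ← ih]

section Act

variable {Γ : Type*} [Group Γ] {n : ℕ} {ρ : Γ → ℕ → ℕ} {OM : ℕ}

/-- Linear action on codes preserving a mask. -/
structure Act (n : ℕ) (OM : ℕ) (ρ : Γ → ℕ → ℕ) : Prop where
  one : ∀ c < 2 ^ n, ρ 1 c = c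
  mul : ∀ g h, ∀ c < 2 ^ n, ρ (g * h) c = ρ g (ρ h c)
  xor : ∀ g, ∀ c < 2 ^ n, ∀ d < 2 ^ n, ρ g (c ^^^ d) = ρ g c ^^^ ρ g d
  lt : ∀ g, ∀ c < 2 ^ n, ρ g c < 2 ^ n
  om : ∀ g, ∀ c < 2 ^ n, OM.testBit (ρ g c) = OM.testBit c

variable (h : Act n OM ρ)
include h

theorem Act.inv_apply (g : Γ) {c d : ℕ} (hc : c < 2 ^ n) (hd : ρ g c = d) : ρ g⁻¹ d = c := by
  rw [← hd, ← h.mul _ _ c hc, inv_mul_cancel, h.one c hc]

/-- the stabiliser of a set of codes -/
def Act.stab (v : ℕ → ℕ) (hv : ∀ i, v i < 2 ^ n) (k : ℕ) : Subgroup Γ where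
  carrier := {g | ∀ i < k, ρ g (v i) = v i}
  one_mem' := fun i _ => h.one _ (hv i)
  mul_mem' := by
    intro a b ha hb i hi
    rw [h.mul a b _ (hv i), hb i hi, ha i hi]
  inv_mem' := by
    intro a ha i hi
    exact h.inv_apply a (hv i) (ha i hi)

theorem Act.mem_stab {v : ℕ → ℕ} {hv : ∀ i, v i < 2 ^ n} {k : ℕ} {g : Γ} :
    g ∈ h.stab v hv k ↔ ∀ i < k, ρ g (v i) = v i := Iff.rfl

theorem Act.chk_of {v : ℕ → ℕ} (hv : ∀ i, v i < 2 ^ n) {k : ℕ} {g : Γ} (hg : g ∈ h.stab v hv k) :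
    chk OM v k (ρ g (v k)) = true := by
  refine spanAll_of (S := fun a => a < 2 ^ n ∧ ρ g a = a) k ?_ ?_ 0
    ⟨Nat.two_pow_pos n, ?_⟩
  · rintro i hi a ⟨ha, hga⟩
    exact ⟨Nat.xor_lt_two_pow ha (hv i), by rw [h.xor g a ha _ (hv i), hga, hg i hi]⟩
  · rintro a ⟨ha, hga⟩
    have h1 := h.om g (a ^^^ v k) (Nat.xor_lt_two_pow ha (hv k))
    rw [h.xor g a ha _ (hv k), hga] at h1
    simp only [h1, beq_self_eq_true]
  · have h1 := h.xor g 0 (Nat.two_pow_pos n) 0 (Nat.two_pow_pos n)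
    simpa using h1

theorem Act.relIndex_le [Finite Γ] {v : ℕ → ℕ} (hv : ∀ i, v i < 2 ^ n) (k : ℕ) :
    (h.stab v hv (k + 1)).relIndex (h.stab v hv k) ≤ num OM v n k := by
  classical
  set G := h.stab v hv k with hG
  set H := (h.stab v hv (k + 1)).subgroupOf G with hH
  set S := (Finset.Ico 0 (0 + 2 ^ n)).filter (fun w => chk OM v k w = true) with hS
  have hmem : ∀ g ∈ G, ρ g (v k) ∈ S := by
    intro g hg
    rw [hS, Finset.mem_filter, Finset.mem_Ico]
    exact ⟨⟨Nat.zero_le _, by rw [zero_add]; exact h.lt g _ (hv k)⟩, h.chk_of hv hg⟩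
  have hnum : num OM v n k = Nat.card S := by
    rw [num, cnt_eq, ← hS, Nat.card_eq_fintype_card, Fintype.card_coe]
  rw [hnum]
  show Nat.card (G ⧸ H) ≤ _
  refine Nat.card_le_card_of_injective
    (fun q : G ⧸ H => (⟨ρ (q.out : G) (v k), hmem _ (q.out : G).2⟩ : S)) ?_
  intro q q' hq
  have h1 : ρ (q.out : G) (v k) = ρ (q'.out : G) (v k) := congrArg Subtype.val hq
  have h2 : (q.out)⁻¹ * q'.out ∈ H := by
    refine mem_subgroupOf.mpr ?_
    show ((q.out : G) : Γ)⁻¹ * ((q'.out : G) : Γ) ∈ h.stab v hv (k + 1)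
    intro i hi
    rcases Nat.lt_succ_iff_lt_or_eq.mp hi with h3 | h3
    · have h4 := (q.out : G).2 i h3
      have h5 := (q'.out : G).2 i h3
      rw [h.mul _ _ _ (hv i), h5]
      exact h.inv_apply _ (hv i) h4
    · subst h3
      rw [h.mul _ _ _ (hv _), ← h1]
      exact h.inv_apply _ (hv _) rfl
  rw [← QuotientGroup.out_eq' q, ← QuotientGroup.out_eq' q']
  exact QuotientGroup.eq.mpr h2

theorem Act.index_le [Finite Γ] {v : ℕ → ℕ} (hv : ∀ i, v i < 2 ^ n) (k : ℕ) :
    (h.stab v hv k).index ≤ ∏ i ∈ Finset.range k, num OM v n i := by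
  induction k with
  | zero =>
    have h1 : h.stab v hv 0 = ⊤ := by
      rw [eq_top_iff]
      intro g _ i hi
      omega
    rw [h1, index_top, Finset.range_zero, Finset.prod_empty]
  | succ k ih =>
    have hle : h.stab v hv (k + 1) ≤ h.stab v hv k := fun g hg i hi => hg i (by omega)
    rw [← relIndex_mul_index hle, Finset.prod_range_succ, mul_comm]
    exact Nat.mul_le_mul ih (h.relIndex_le hv k)

end Act

end Cfsg.Agent.KFacts.FiTF.Chain

end

-- merged: Cfsg.Agent.KFacts.FiTF.Lin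
section

/-!
# Automorphisms of a coded extraspecial group preserving a mask

`R = RG n z x`, `Om = {cod c : OM.testBit (c % 2 ^ n)}`. If `2 ^ n * ∏ num OM v n k < |C_F(z)|`, every automorphism of
`R` fixing `z` and preserving `Om` is conjugation by an element of `C_F(z)`.
-/

set_option autoImplicit false
set_option linter.unusedSectionVars false

namespace Cfsg.Agent.KFacts.FiTF.Lin

open Subgroup
open Cfsg.Agent.LargeExtra.Model Cfsg.Agent.LargeExtra.Pres Cfsg.Agent.KFacts.Codes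
open Cfsg.Agent.KFacts.FiTF.Chain

variable {F : Type*} [Group F] {B : ℕ → ℕ} {n : ℕ} {z : F} {x : ℕ → F}

/-- the elements whose code lies in the mask -/
def OmSet (n : ℕ) (OM : ℕ) (z : F) (x : ℕ → F) : Set F :=
  {g | ∃ c < 2 ^ (n + 1), OM.testBit (c % 2 ^ n) = true ∧ cod n z x c = g}

open Classical in
/-- the code of an element -/
noncomputable def code (n : ℕ) (z : F) (x : ℕ → F) (r : F) : ℕ :=
  if h : ∃ c < 2 ^ (n + 1), cod n z x c = r then h.choose else 0

/-- the code modulo `z` -/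
noncomputable def pi (n : ℕ) (z : F) (x : ℕ → F) (r : F) : ℕ := code n z x r % 2 ^ n

/-- Hypotheses. -/
structure Dt (B : ℕ → ℕ) (n : ℕ) (z : F) (x : ℕ → F) : Prop where
  rel : Rels B n z x
  tri : Tri B n
  nd : Nondeg B n
  z1 : z ≠ 1

theorem mulc_lt {c d : ℕ} (hc : c < 2 ^ (n + 1)) (hd : d < 2 ^ (n + 1)) : mulc B n c d < 2 ^ (n + 1) := by
  refine Nat.xor_lt_two_pow (Nat.xor_lt_two_pow hc hd) ?_
  split_ifs
  · exact Nat.pow_lt_pow_right (by norm_num) (Nat.lt_succ_self n)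
  · exact Nat.two_pow_pos _

theorem mulc_mod (c d : ℕ) : mulc B n c d % 2 ^ n = (c % 2 ^ n) ^^^ (d % 2 ^ n) := by
  rw [mulc, Nat.xor_mod_two_pow, Nat.xor_mod_two_pow]
  split_ifs
  · rw [Nat.mod_self, Nat.xor_zero]
  · rw [Nat.zero_mod, Nat.xor_zero]

/-- xor of the `v i` over the bits of `m` -/
def lc (v : ℕ → ℕ) (m : ℕ) : ℕ → ℕ
  | 0 => 0
  | k + 1 => if m.testBit k = true then lc v m k ^^^ v k else lc v m k

theorem lc_fix {Γ : Type*} [Group Γ] {OM : ℕ} {ρ : Γ → ℕ → ℕ} (ha : Act n OM ρ) {v : ℕ → ℕ}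
    (hv : ∀ i, v i < 2 ^ n) {g : Γ} (m : ℕ) :
    ∀ k : ℕ, (∀ i < k, ρ g (v i) = v i) → lc v m k < 2 ^ n ∧ ρ g (lc v m k) = lc v m k := by
  intro k
  induction k with
  | zero =>
    intro _
    refine ⟨Nat.two_pow_pos n, ?_⟩
    have h1 := ha.xor g 0 (Nat.two_pow_pos n) 0 (Nat.two_pow_pos n)
    simpa [lc] using h1
  | succ k ih =>
    intro hk
    obtain ⟨h1, h2⟩ := ih fun i hi => hk i (by omega)
    unfold lc
    split_ifs
    · exact ⟨Nat.xor_lt_two_pow h1 (hv k), by rw [ha.xor g _ h1 _ (hv k), h2, hk k (by omega)]⟩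
    · exact ⟨h1, h2⟩

section

variable (h : Dt B n z x)
include h

theorem Dt.code_spec {r : F} (hr : r ∈ RG n z x) :
    code n z x r < 2 ^ (n + 1) ∧ cod n z x (code n z x r) = r := by
  have h1 := (mem_RG h.rel h.tri).1 hr
  rw [code, dif_pos h1]
  exact h1.choose_spec

theorem Dt.code_cod {c : ℕ} (hc : c < 2 ^ (n + 1)) : code n z x (cod n z x c) = c := by
  have h1 := h.code_spec (cod_mem (K := F) (n := n) (z := z) (x := x) c)
  exact cod_injOn h.rel h.tri h.nd h.z1 h1.1 hc h1.2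

theorem Dt.pi_lt (r : F) : pi n z x r < 2 ^ n := Nat.mod_lt _ (Nat.two_pow_pos n)

theorem Dt.pi_cod {c : ℕ} (hc : c < 2 ^ n) : pi n z x (cod n z x c) = c := by
  rw [pi, h.code_cod (by rw [pow_succ]; omega), Nat.mod_eq_of_lt hc]

theorem Dt.pi_mul {r s : F} (hr : r ∈ RG n z x) (hs : s ∈ RG n z x) :
    pi n z x (r * s) = pi n z x r ^^^ pi n z x s := by
  obtain ⟨h1, h2⟩ := h.code_spec hr
  obtain ⟨h3, h4⟩ := h.code_spec hs
  have h5 : code n z x (r * s) = mulc B n (code n z x r) (code n z x s) := by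
    conv_lhs => rw [← h2, ← h4, cod_mul h.rel h.tri]
    exact h.code_cod (mulc_lt h1 h3)
  rw [pi, h5, mulc_mod]
  rfl

theorem Dt.pi_z : pi n z x z = 0 := by
  have h1 : code n z x z = 2 ^ n := by
    have h2 := h.code_cod (c := 2 ^ n) (Nat.pow_lt_pow_right (by norm_num) (Nat.lt_succ_self n))
    rwa [cod_z (K := F) (n := n) (z := z) (x := x)] at h2
  rw [pi, h1, Nat.mod_self]

theorem Dt.z_mem : z ∈ RG n z x := Subgroup.subset_closure (Set.mem_insert _ _)

/-- `r` is `cod (pi r)` up to `z` -/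
theorem Dt.eq_cod {r : F} (hr : r ∈ RG n z x) :
    r = cod n z x (pi n z x r) ∨ r = z * cod n z x (pi n z x r) := by
  obtain ⟨h1, h2⟩ := h.code_spec hr
  have h3 : code n z x r = pi n z x r ^^^ (if (code n z x r).testBit n = true then 2 ^ n else 0) := by
    apply Nat.eq_of_testBit_eq
    intro i
    rw [Nat.testBit_xor, pi, Nat.testBit_mod_two_pow, testBit_flag]
    rcases lt_trichotomy i n with hi | hi | hi
    · rw [decide_eq_true hi, decide_eq_false (by omega : ¬ n = i)]; simp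
    · subst hi
      simp
    · rw [Nat.testBit_lt_two_pow (lt_of_lt_of_le h1 (Nat.pow_le_pow_right (by norm_num) hi)),
        decide_eq_false (by omega : ¬ i < n), decide_eq_false (by omega : ¬ n = i)]
      simp
  have h4 := cod_xor_flag h.rel (pi n z x r) ((code n z x r).testBit n)
  rw [← h3, h2] at h4
  cases hb : (code n z x r).testBit n
  · left
    rw [hb] at h4
    simpa [zp] using h4
  · right
    rw [hb] at h4
    simpa [zp] using h4

theorem Dt.mem_Om {OM : ℕ} {r : F} (hr : r ∈ RG n z x) :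
    r ∈ OmSet n OM z x ↔ OM.testBit (pi n z x r) = true := by
  constructor
  · rintro ⟨c, hc, h1, rfl⟩
    rwa [pi, h.code_cod hc]
  · intro h1
    obtain ⟨h2, h3⟩ := h.code_spec hr
    exact ⟨_, h2, h1, h3⟩

/-- automorphisms fixing `z` and preserving `Om` -/
def Dt.gam (OM : ℕ) : Subgroup (MulAut (RG n z x)) where
  carrier := {f | (f ⟨z, h.z_mem⟩ : F) = z ∧ ∀ r : RG n z x, (r : F) ∈ OmSet n OM z x ↔ (f r : F) ∈ OmSet n OM z x}
  one_mem' := ⟨rfl, fun _ => Iff.rfl⟩
  mul_mem' := by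
    rintro a b ⟨ha, ha'⟩ ⟨hb, hb'⟩
    have hb1 : b ⟨z, h.z_mem⟩ = ⟨z, h.z_mem⟩ := Subtype.ext hb
    refine ⟨?_, fun r => ?_⟩
    · rw [MulAut.mul_apply, hb1, ha]
    · rw [MulAut.mul_apply]
      exact (hb' r).trans (ha' (b r))
  inv_mem' := by
    rintro a ⟨ha, ha'⟩
    have ha1 : a ⟨z, h.z_mem⟩ = ⟨z, h.z_mem⟩ := Subtype.ext ha
    refine ⟨?_, fun r => ?_⟩
    · have h1 : a⁻¹ ⟨z, h.z_mem⟩ = ⟨z, h.z_mem⟩ := by
        rw [← ha1, MulAut.inv_apply_self, ha1]
      rw [h1]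
    · have h1 := ha' (a⁻¹ r)
      rw [MulAut.apply_inv_self] at h1
      exact h1.symm

/-- the action on codes -/
noncomputable def Dt.rho (OM : ℕ) (f : h.gam OM) (c : ℕ) : ℕ :=
  pi n z x ((f : MulAut (RG n z x)) ⟨cod n z x c, cod_mem c⟩ : F)

theorem Dt.gam_z {OM : ℕ} (f : h.gam OM) :
    (f : MulAut (RG n z x)) ⟨z, h.z_mem⟩ = ⟨z, h.z_mem⟩ := Subtype.ext f.2.1

/-- the image modulo `z` depends on the code modulo `z` only -/
theorem Dt.pi_gam {OM : ℕ} (f : h.gam OM) (r : RG n z x) :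
    pi n z x ((f : MulAut (RG n z x)) r : F) = h.rho OM f (pi n z x (r : F)) := by
  rcases h.eq_cod r.2 with h1 | h1
  · have h2 : r = ⟨cod n z x (pi n z x (r : F)), cod_mem _⟩ := Subtype.ext h1
    conv_lhs => rw [h2]
    rfl
  · have h2 : r = ⟨z, h.z_mem⟩ * ⟨cod n z x (pi n z x (r : F)), cod_mem _⟩ := Subtype.ext h1
    conv_lhs => rw [h2, map_mul, h.gam_z]
    show pi n z x (z * _) = _
    rw [h.pi_mul h.z_mem (SetLike.coe_mem _), h.pi_z, Nat.zero_xor]
    rfl

theorem Dt.act (OM : ℕ) : Act n OM (h.rho OM) where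
  one := fun c hc => h.pi_cod hc
  mul := by
    intro f g c hc
    show pi n z x ((f : MulAut (RG n z x)) ((g : MulAut (RG n z x)) ⟨cod n z x c, cod_mem c⟩) : F) = _
    rw [h.pi_gam]
    rfl
  xor := by
    intro f c hc d hd
    have h1 := cod_mul h.rel h.tri c d
    rw [mulc, cod_xor_flag h.rel] at h1
    have h2 : h.rho OM f c ^^^ h.rho OM f d =
        pi n z x ((f : MulAut (RG n z x)) (⟨cod n z x c, cod_mem c⟩ * ⟨cod n z x d, cod_mem d⟩) : F) := by
      rw [map_mul]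
      exact (h.pi_mul (SetLike.coe_mem _) (SetLike.coe_mem _)).symm
    rw [h2, h.pi_gam]
    congr 1
    show c ^^^ d = pi n z x (cod n z x c * cod n z x d)
    rw [h.pi_mul (cod_mem _) (cod_mem _), h.pi_cod hc, h.pi_cod hd]
  lt := fun f c _ => h.pi_lt _
  om := by
    intro f c hc
    have h1 := f.2.2 ⟨cod n z x c, cod_mem c⟩
    rw [h.mem_Om (cod_mem _), h.mem_Om (SetLike.coe_mem _), h.pi_cod hc] at h1
    show OM.testBit (pi n z x ((f : MulAut (RG n z x)) ⟨cod n z x c, cod_mem c⟩ : F)) = _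
    exact (Bool.eq_iff_iff.mpr h1).symm

/-! ### The count -/

/-- the kernel is small -/
theorem Dt.card_stab [Finite F] {OM : ℕ} {v : ℕ → ℕ} (hv : ∀ i, v i < 2 ^ n)
    (hs : ∀ j < n, ∃ m, lc v m n = 2 ^ j) :
    Nat.card ((h.act OM).stab v hv n) ≤ 2 ^ n := by
  classical
  have key : ∀ f ∈ (h.act OM).stab v hv n, ∀ j < n, ∀ hx : x j ∈ RG n z x,
      ((f : MulAut (RG n z x)) ⟨x j, hx⟩ : F) = x j ∨ ((f : MulAut (RG n z x)) ⟨x j, hx⟩ : F) = z * x j := by
    intro f hf j hj hx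
    obtain ⟨m, hm⟩ := hs j hj
    have h1 := (lc_fix (h.act OM) hv (g := f) m n hf).2
    rw [hm] at h1
    have h2 : (⟨x j, hx⟩ : RG n z x) = ⟨cod n z x (2 ^ j), cod_mem _⟩ := Subtype.ext (cod_pow hj).symm
    have h3 : pi n z x ((f : MulAut (RG n z x)) ⟨x j, hx⟩ : F) = 2 ^ j := by
      rw [h2]; exact h1
    have h4 := h.eq_cod (SetLike.coe_mem ((f : MulAut (RG n z x)) ⟨x j, hx⟩))
    rwa [h3, cod_pow hj] at h4
  have hxm : ∀ j < n, x j ∈ RG n z x := fun j hj =>
    Subgroup.subset_closure (Set.mem_insert_of_mem _ ⟨j, hj, rfl⟩)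
  let φ : (h.act OM).stab v hv n → (Fin n → Bool) := fun f j =>
    decide (((((f : h.gam OM) : MulAut (RG n z x)) ⟨x j, hxm j j.2⟩ : RG n z x) : F) = x j)
  have hφ : Function.Injective φ := by
    intro f f' hff
    apply Subtype.ext
    apply Subtype.ext
    have hgen : ∀ r : RG n z x, ((f : h.gam OM) : MulAut (RG n z x)) r = ((f' : h.gam OM) : MulAut (RG n z x)) r := by
      rintro ⟨r, hr⟩
      have hr' := hr
      unfold RG at hr'
      induction hr' using Subgroup.closure_induction with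
      | mem y hy =>
        rcases hy with rfl | ⟨j, hj, rfl⟩
        · rw [h.gam_z, h.gam_z]
        · have h1 := congrFun hff ⟨j, hj⟩
          simp only [φ, decide_eq_decide] at h1
          apply Subtype.ext
          rcases key f f.2 j hj hr with h2 | h2
          · rw [h2, h1.1 h2]
          · rcases key f' f'.2 j hj hr with h3 | h3
            · rw [h3, h1.2 h3]
            · rw [h2, h3]
      | one =>
        have h1 : (⟨1, hr⟩ : RG n z x) = 1 := rfl
        rw [h1, map_one, map_one]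
      | mul a b ha hb iha ihb =>
        have h1 : (⟨a * b, hr⟩ : RG n z x) = ⟨a, ha⟩ * ⟨b, hb⟩ := rfl
        rw [h1, map_mul, map_mul, iha ha, ihb hb]
      | inv a ha iha =>
        have h1 : (⟨a⁻¹, hr⟩ : RG n z x) = (⟨a, ha⟩)⁻¹ := rfl
        rw [h1, map_inv, map_inv, iha ha]
    exact MulEquiv.ext hgen
  have h1 := Nat.card_le_card_of_injective φ hφ
  have h2 : Nat.card (Fin n → Bool) = 2 ^ n := by
    rw [Nat.card_eq_fintype_card, Fintype.card_fun, Fintype.card_bool, Fintype.card_fin]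
  rwa [h2] at h1

theorem Dt.card_gam [Finite F] {OM : ℕ} {v : ℕ → ℕ} (hv : ∀ i, v i < 2 ^ n)
    (hs : ∀ j < n, ∃ m, lc v m n = 2 ^ j) :
    Nat.card (h.gam OM) ≤ 2 ^ n * ∏ i ∈ Finset.range n, num OM v n i := by
  rw [← Subgroup.card_mul_index ((h.act OM).stab v hv n)]
  exact Nat.mul_le_mul (h.card_stab hv hs) ((h.act OM).index_le hv n)

/-- conjugation as an element of `gam` -/
def Dt.cj {OM : ℕ} (norm : ∀ g : F, g * z = z * g → ∀ r ∈ RG n z x, g * r * g⁻¹ ∈ RG n z x)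
    (omC : ∀ g : F, g * z = z * g → ∀ a ∈ OmSet n OM z x, g * a * g⁻¹ ∈ OmSet n OM z x) :
    centralizer ({z} : Set F) →* h.gam OM where
  toFun g :=
    have hg : (g : F) * z = z * g := mem_centralizer_singleton_iff.1 g.2
    have hg' : (g : F)⁻¹ * z = z * (g : F)⁻¹ := by
      have : (g : F)⁻¹ * (z * g) = (g : F)⁻¹ * (g * z) := by rw [hg]
      calc (g : F)⁻¹ * z = (g : F)⁻¹ * (z * g) * (g : F)⁻¹ := by group
        _ = (g : F)⁻¹ * (g * z) * (g : F)⁻¹ := by rw [this]
        _ = z * (g : F)⁻¹ := by group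
    ⟨{ toFun := fun r => ⟨g * r * (g : F)⁻¹, norm g hg r r.2⟩
       invFun := fun r => ⟨(g : F)⁻¹ * r * ((g : F)⁻¹)⁻¹, norm _ hg' r r.2⟩
       left_inv := fun r => Subtype.ext (by show (g : F)⁻¹ * (g * r * (g : F)⁻¹) * ((g : F)⁻¹)⁻¹ = r; group)
       right_inv := fun r => Subtype.ext (by show (g : F) * ((g : F)⁻¹ * r * ((g : F)⁻¹)⁻¹) * (g : F)⁻¹ = r; group)
       map_mul' := fun r s => Subtype.ext (by
        show (g : F) * (r * s) * (g : F)⁻¹ = g * r * (g : F)⁻¹ * (g * s * (g : F)⁻¹); group) }, by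
      refine ⟨?_, fun r => ?_⟩
      · show (g : F) * z * (g : F)⁻¹ = z
        rw [hg]; group
      · show (r : F) ∈ OmSet n OM z x ↔ (g : F) * r * (g : F)⁻¹ ∈ OmSet n OM z x
        refine ⟨omC g hg r, fun h1 => ?_⟩
        have h2 := omC _ hg' _ h1
        have h3 : (g : F)⁻¹ * (g * r * (g : F)⁻¹) * ((g : F)⁻¹)⁻¹ = r := by group
        rwa [h3] at h2⟩
  map_one' := Subtype.ext (MulEquiv.ext fun r => Subtype.ext (by
    show ((1 : centralizer ({z} : Set F)) : F) * r * ((1 : centralizer ({z} : Set F)) : F)⁻¹ = r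
    simp))
  map_mul' a b := Subtype.ext (MulEquiv.ext fun r => Subtype.ext (by
    show ((a * b : centralizer ({z} : Set F)) : F) * r * ((a * b : centralizer ({z} : Set F)) : F)⁻¹ =
      a * (b * r * (b : F)⁻¹) * (a : F)⁻¹
    rw [coe_mul, mul_inv_rev]
    simp only [mul_assoc]))

theorem Dt.cj_apply {OM : ℕ} (norm : ∀ g : F, g * z = z * g → ∀ r ∈ RG n z x, g * r * g⁻¹ ∈ RG n z x)
    (omC : ∀ g : F, g * z = z * g → ∀ a ∈ OmSet n OM z x, g * a * g⁻¹ ∈ OmSet n OM z x)
    (g : centralizer ({z} : Set F)) (r : RG n z x) :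
    (((h.cj norm omC g : h.gam OM) : MulAut (RG n z x)) r : F) = g * r * (g : F)⁻¹ := rfl

/-- **The theorem.** -/
theorem Dt.lin [Finite F] {OM : ℕ} {v : ℕ → ℕ} (hv : ∀ i, v i < 2 ^ n)
    (hs : ∀ j < n, ∃ m, lc v m n = 2 ^ j)
    (norm : ∀ g : F, g * z = z * g → ∀ r ∈ RG n z x, g * r * g⁻¹ ∈ RG n z x)
    (cent : ∀ g : F, (∀ r ∈ RG n z x, g * r = r * g) → g = 1 ∨ g = z)
    (omC : ∀ g : F, g * z = z * g → ∀ a ∈ OmSet n OM z x, g * a * g⁻¹ ∈ OmSet n OM z x)
    (card : 2 ^ n * ∏ i ∈ Finset.range n, num OM v n i < Nat.card (centralizer ({z} : Set F)))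
    (zR : z ∈ RG n z x) (f : MulAut (RG n z x)) (hf : (f ⟨z, zR⟩ : F) = z)
    (hO : ∀ r : RG n z x, (r : F) ∈ OmSet n OM z x → (f r : F) ∈ OmSet n OM z x) :
    ∃ g : F, g * z = z * g ∧ ∀ r : RG n z x, (f r : F) = g * r * g⁻¹ := by
  classical
  -- `f` lies in `gam`
  have hfg : f ∈ h.gam OM := by
    refine ⟨hf, fun r => ⟨hO r, fun h1 => ?_⟩⟩
    have hk : ∀ k : ℕ, ∀ s : RG n z x, (s : F) ∈ OmSet n OM z x → ((f ^ k) s : F) ∈ OmSet n OM z x := by
      intro k
      induction k with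
      | zero => intro s hs; simpa using hs
      | succ k ih =>
        intro s hs
        rw [pow_succ', MulAut.mul_apply]
        exact hO _ (ih s hs)
    haveI : Finite (MulAut (RG n z x)) := by
      have : Function.Injective (fun φ : MulAut (RG n z x) => (φ : RG n z x → RG n z x)) :=
        fun a b hab => MulEquiv.ext fun r => congrFun hab r
      exact Finite.of_injective _ this
    obtain ⟨k, hk1⟩ : ∃ k : ℕ, f ^ k = f⁻¹ := by
      refine ⟨orderOf f - 1, ?_⟩
      have h2 : f ^ (orderOf f - 1) * f = 1 := by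
        rw [← pow_succ, Nat.sub_add_cancel (orderOf_pos f), pow_orderOf_eq_one]
      exact eq_inv_of_mul_eq_one_left h2
    have h3 := hk k (f r) h1
    rw [hk1, MulAut.inv_apply_self] at h3
    exact h3
  -- counting
  set I := (h.cj norm omC).range with hI
  have hker : Nat.card (h.cj norm omC).ker ≤ 2 := by
    have h1 : ∀ g ∈ (h.cj norm omC).ker, (g : F) = 1 ∨ (g : F) = z := by
      intro g hg
      apply cent
      intro r hr
      have h2 := h.cj_apply norm omC g ⟨r, hr⟩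
      rw [MonoidHom.mem_ker.1 hg] at h2
      have h3 : r = g * r * (g : F)⁻¹ := h2
      calc (g : F) * r = g * r * (g : F)⁻¹ * g := by group
        _ = r * g := by rw [← h3]
    let ψ : (h.cj norm omC).ker → Bool := fun g => decide (((g : centralizer ({z} : Set F)) : F) = 1)
    have hψ : Function.Injective ψ := by
      intro a b hab
      simp only [ψ, decide_eq_decide] at hab
      apply Subtype.ext; apply Subtype.ext
      rcases h1 a a.2 with h2 | h2
      · rw [h2, hab.1 h2]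
      · rcases h1 b b.2 with h3 | h3
        · rw [h3, hab.2 h3]
        · rw [h2, h3]
    have h2 := Nat.card_le_card_of_injective ψ hψ
    simpa using h2
  have hcard : Nat.card (centralizer ({z} : Set F)) ≤ 2 * Nat.card I := by
    have h1 : Nat.card (centralizer ({z} : Set F)) = Nat.card I * Nat.card (h.cj norm omC).ker := by
      rw [← Subgroup.card_mul_index (h.cj norm omC).ker, Subgroup.index_ker, mul_comm]
    rw [h1, mul_comm]
    exact Nat.mul_le_mul_right _ hker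
  have htop : I = ⊤ := by
    by_contra hne
    have h1 : 2 ≤ I.index := by
      have h2 : I.index ≠ 0 := Subgroup.index_ne_zero_of_finite
      have h3 : I.index ≠ 1 := fun h4 => hne (Subgroup.index_eq_one.1 h4)
      omega
    have h2 := Subgroup.card_mul_index I
    have h3 := h.card_gam (OM := OM) hv hs
    have h4 : Nat.card I * 2 ≤ Nat.card (h.gam OM) := by
      rw [← h2]; exact Nat.mul_le_mul_left _ h1
    omega
  obtain ⟨g, hg⟩ : (⟨f, hfg⟩ : h.gam OM) ∈ I := htop ▸ mem_top _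
  refine ⟨g, mem_centralizer_singleton_iff.1 g.2, fun r => ?_⟩
  rw [← h.cj_apply norm omC g r, hg]

end

end Cfsg.Agent.KFacts.FiTF.Lin

end
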